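import Cfsg.Agent.Lib.TIInvolution.Plane

/-!
# The affine plane case `|M| = 2^s + 1`, `2^(2s)` points

The fixed point sets of the involutions conjugate to `z` are the lines; disjoint lines commute, and
the elements mapping every line to a commuting one form the translation group.
-/

set_option autoImplicit false
set_option linter.style.haveILetI false
set_option linter.unusedSectionVars false

namespace Cfsg.Agent.TIInv

open Subgroup MulAction

variable {G : Type*} [Group G] [Finite G] {M : Subgroup G} {z : G}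

/-- The involutions with fixed points. -/
def IsAxial (M : Subgroup G) (v : G) : Prop := orderOf v = 2 ∧ ∃ P : Pts M, v • P = P

omit [Finite G] in
theorem IsAxial.conj {v : G} (hv : IsAxial M v) (g : G) : IsAxial M (g * v * g⁻¹) := by
  obtain ⟨h, P, hP⟩ := hv
  exact ⟨orderOf_conj_two h g, g • P, conj_smul_eq_iff.2 hP⟩

namespace Big

variable (hB : Big M z) (hr : 2 ≤ Nat.card (Fix M z))
include hB hr

theorem axial_centralizer {v : G} (hv : IsAxial M v) :
    (∀ a ∈ centralizer ({v} : Set G), ∀ b ∈ centralizer ({v} : Set G), a * b = b * a) := by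
  obtain ⟨h, P, hP⟩ := hv
  obtain ⟨g, rfl, -⟩ := hB.exists_conj_z h hP
  intro a ha b hb
  have hmem : ∀ c ∈ centralizer ({g * z * g⁻¹} : Set G), g⁻¹ * c * g ∈ centralizer ({z} : Set G) := by
    intro c hc
    rw [mem_centralizer_singleton_iff] at hc ⊢
    calc g⁻¹ * c * g * z = g⁻¹ * (c * (g * z * g⁻¹)) * g := by group
      _ = z * (g⁻¹ * c * g) := by rw [hc]; group
  calc a * b = g * ((g⁻¹ * a * g) * (g⁻¹ * b * g)) * g⁻¹ := by group
    _ = b * a := by rw [hB.centralizer_comm hr (hmem a ha) (hmem b hb)]; group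

/-- Commuting is transitive on axial involutions. -/
theorem axial_trans {u v w : G} (hv : IsAxial M v) (h1 : u * v = v * u) (h2 : v * w = w * v) :
    u * w = w * u :=
  hB.axial_centralizer hr hv u (mem_centralizer_singleton_iff.2 h1) w
    (mem_centralizer_singleton_iff.2 h2.symm)

theorem axial_at_unique {P : Pts M} {v w : G} (hv : orderOf v = 2) (hw : orderOf w = 2)
    (hvP : v • P = P) (hwP : w • P = P) (h : v * w = w * v) : v = w := by
  induction P using QuotientGroup.induction_on with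
  | _ a =>
    have e := hB.eq_of_commute (v := a⁻¹ * v * a) (w := a⁻¹ * w * a)
      (by simpa using orderOf_conj_two hv a⁻¹) (by simpa using orderOf_conj_two hw a⁻¹)
      (smul_mk_eq_iff.1 hvP) (smul_mk_eq_iff.1 hwP) (by
        calc a⁻¹ * v * a * (a⁻¹ * w * a) = a⁻¹ * (v * w) * a := by group
          _ = a⁻¹ * w * a * (a⁻¹ * v * a) := by rw [h]; group)
    simpa using e

variable {s : ℕ} (hs : Nat.card (Fix M z) + 1 = 2 ^ s) (hm : Nat.card M = 2 ^ s + 1)
include hs hm

/-- Axial involutions with disjoint axes commute. -/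
theorem commute_of_disjoint {v w : G} (hv : IsAxial M v) (hw : IsAxial M w)
    (hd : ∀ P : Pts M, v • P = P → w • P ≠ P) : v * w = w * v := by
  classical
  obtain ⟨hv2, P₀, hP₀⟩ := hv
  obtain ⟨hw2, P, hwP⟩ := hw
  have hvP : v • P ≠ P := fun e => hd P e hwP
  -- the involutions at `P`
  let A : Type _ := {x : G // orderOf x = 2 ∧ x • P = P}
  obtain ⟨u, ⟨hu2, huP, huvP⟩, huniq⟩ := hB.existsUnique_fixing hvP.symm
  have huv : v * u = u * v := by
    have h1 := huniq (v * u * v⁻¹) ⟨orderOf_conj_two hu2 v, by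
      rw [mul_smul, mul_smul, inv_eq_self hv2, huvP, ← mul_smul, sq_eq_one hv2, one_smul],
      by rw [conj_smul_eq_iff, huP]⟩
    exact mul_inv_eq_iff_eq_mul.1 h1
  have key : ∀ Q : {Q : Pts M // v • Q = Q}, ∃ x : A, x.1 • Q.1 = Q.1 := fun Q => by
    obtain ⟨x, ⟨hx2, hxP, hxQ⟩, -⟩ := hB.existsUnique_fixing (P := P) (Q := Q.1)
      (fun e => hvP (e ▸ Q.2))
    exact ⟨⟨x, hx2, hxP⟩, hxQ⟩
  choose f hf using key
  have hfinj : Function.Injective f := by
    intro Q Q' e
    by_contra hne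
    obtain ⟨x, -, hxu⟩ := hB.existsUnique_fixing (P := Q.1) (Q := Q'.1)
      (fun e' => hne (Subtype.ext e'))
    have h1 : v = x := hxu v ⟨hv2, Q.2, Q'.2⟩
    have h2 : (f Q).1 = x := hxu _ ⟨(f Q).2.1, hf Q, by rw [e]; exact hf Q'⟩
    exact hvP (by rw [h1, ← h2]; exact (f Q).2.2)
  have hu_ne : ∀ Q, f Q ≠ ⟨u, hu2, huP⟩ := fun Q e => by
    have h1 : u • Q.1 = Q.1 := by
      have := hf Q
      rwa [e] at this
    exact hvP (by rw [hB.axial_at_unique hr hv2 hu2 Q.2 h1 huv]; exact huP)
  have hcardA : Nat.card A = 2 ^ s + 1 := by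
    obtain ⟨a, rfl⟩ := exists_smul_base P
    rw [← hm, ← hB.toHyp.card_involutions]
    exact Nat.card_congr
      ((MulAut.conj a⁻¹).toEquiv.subtypeEquiv fun x => by
        show _ ↔ orderOf (MulAut.conj a⁻¹ x) = 2 ∧ a⁻¹ * x * a⁻¹⁻¹ ∈ normalizer (M : Set G)
        rw [MulEquiv.orderOf_eq, ← smul_base_eq_iff, mul_smul, mul_smul, inv_inv,
          inv_smul_eq_iff])
  have hcardQ : Nat.card {Q : Pts M // v • Q = Q} = 2 ^ s := by
    obtain ⟨g, rfl, -⟩ := hB.exists_conj_z hv2 hP₀
    rw [← hs, ← hB.card_fixedPts_z]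
    exact (Nat.card_congr ((MulAction.toPerm g).subtypeEquiv fun P => conj_smul_eq_iff.symm)).symm
  let g : Option {Q : Pts M // v • Q = Q} → A := fun o => o.elim ⟨u, hu2, huP⟩ f
  have hg : Function.Bijective g := by
    refine (Nat.bijective_iff_injective_and_card g).2 ⟨?_, by
      rw [Finite.card_option, hcardQ, hcardA]⟩
    rintro (_ | Q) (_ | Q') e
    · rfl
    · exact absurd e.symm (hu_ne Q')
    · exact absurd e (hu_ne Q)
    · exact congrArg some (hfinj e)
  obtain ⟨_ | Q, e⟩ := hg.2 ⟨w, hw2, hwP⟩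
  · have : u = w := congrArg Subtype.val e
    exact this ▸ huv
  · exfalso
    have : (f Q).1 = w := congrArg Subtype.val e
    exact hd Q.1 Q.2 (this ▸ hf Q)

theorem affine :
    ∃ E : Subgroup G, E.Normal ∧ Cfsg.IsElementaryAbelian 2 E ∧ Nat.card E = 2 ^ (2 * s) ∧
      E ⊓ normalizer (M : Set G) = ⊥ ∧ E ⊔ normalizer (M : Set G) = ⊤ ∧
      Nonempty (normalizer (M : Set G) ≃* DihedralGroup (2 ^ s + 1)) := by
  classical
  let K : Subgroup G :=
    { carrier := {g | ∀ v, IsAxial M v → (g * v * g⁻¹) * v = v * (g * v * g⁻¹)}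
      one_mem' := fun v _ => by simp
      mul_mem' := by
        intro g h hg hh v hv
        have e1 := hg _ (hv.conj h)
        have e2 := hh v hv
        rw [show g * h * v * (g * h)⁻¹ = g * (h * v * h⁻¹) * g⁻¹ by group]
        exact hB.axial_trans hr (hv.conj h) e1 e2
      inv_mem' := by
        intro g hg v hv
        have e := hg _ (hv.conj g⁻¹)
        rw [show g * (g⁻¹ * v * g⁻¹⁻¹) * g⁻¹ = v by group] at e
        exact e.symm }
  have hKn : K.Normal := ⟨fun k hk g v hv => by
    have e := hk _ (hv.conj g⁻¹)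
    rw [inv_inv] at e
    calc g * k * g⁻¹ * v * (g * k * g⁻¹)⁻¹ * v
        = g * ((k * (g⁻¹ * v * g) * k⁻¹) * (g⁻¹ * v * g)) * g⁻¹ := by group
      _ = v * (g * k * g⁻¹ * v * (g * k * g⁻¹)⁻¹) := by rw [e]; group⟩
  have hKN : K ⊓ normalizer (M : Set G) = ⊥ := by
    rw [eq_bot_iff]
    rintro h ⟨hK, hN⟩
    rw [mem_bot]
    have hza : IsAxial M z := ⟨hB.hz, base M, smul_base_eq_iff.2 hB.zN⟩
    have e := hK z hza
    have h1 : h * z * h⁻¹ = z := hB.eq_of_commute (orderOf_conj_two hB.hz h) hB.hz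
      (mul_mem (mul_mem hN hB.zN) (inv_mem hN)) hB.zN e
    have hhz : h * z = z * h := mul_inv_eq_iff_eq_mul.1 h1
    refine (hB.eq_of_mem_Cz hr (mem_Cz.2 ⟨hN, hhz⟩)).resolve_right fun hh => ?_
    subst hh
    obtain ⟨x, hx, hx1⟩ := M.bot_or_exists_ne_one.resolve_left hB.ne_bot
    have hu2 := hB.orderOf_z_mul hx
    have huN : h * x ∈ normalizer (M : Set G) := mul_mem hB.zN (hB.mem_normalizer hx)
    have e' := hK (h * x) ⟨hu2, base M, smul_base_eq_iff.2 huN⟩
    have h2 : h * (h * x) * h⁻¹ = h * x := hB.eq_of_commute (orderOf_conj_two hu2 h) hu2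
      (mul_mem (mul_mem hB.zN huN) (inv_mem hB.zN)) huN e'
    exact hB.not_commute hB.hz hx hx1 (mul_left_cancel (a := h) (by
      have h3 := mul_inv_eq_iff_eq_mul.1 h2
      rw [h3]; group))
  have hW : ∀ w : G, orderOf w = 2 → (∀ P : Pts M, w • P ≠ P) → w ∈ K := by
    intro w hw hfree v hv
    by_cases hd : ∀ P : Pts M, v • P = P → (w * v * w⁻¹) • P ≠ P
    · exact (hB.commute_of_disjoint hr hs hm hv (hv.conj w) hd).symm
    · push Not at hd
      obtain ⟨P, hvP, hvP'⟩ := hd
      have hR : v • (w • P) = w • P := by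
        have h1 : v • (w⁻¹ • P) = w⁻¹ • P := by
          rw [mul_smul, mul_smul] at hvP'
          exact eq_inv_smul_iff.2 hvP'
        rwa [inv_eq_self hw] at h1
      obtain ⟨x, -, hxu⟩ := hB.existsUnique_fixing (P := P) (Q := w • P) (hfree P).symm
      have e := (hxu (w * v * w⁻¹) ⟨orderOf_conj_two hv.1 w, hvP',
        conj_smul_eq_iff.2 hvP⟩).trans (hxu v ⟨hv.1, hvP, hR⟩).symm
      rw [e]
  -- counting
  have hT := hB.card_fixing
  rw [hB.card_pts, hm, hs] at hT
  have hq4 : 4 ≤ 2 ^ s := by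
    rcases Nat.lt_or_ge s 2 with h' | h'
    · interval_cases s <;> omega
    · exact Nat.pow_le_pow_right two_pos h'
  set Q := 2 ^ s with hQdef
  have hn : Nat.card (Pts M) = Q * Q := by
    rw [hB.card_pts, hm, show Nat.card (Fix M z) = Q - 1 by omega]
    obtain ⟨w, hw⟩ : ∃ w, Q = w + 1 := ⟨Q - 1, by omega⟩
    rw [hw, Nat.add_sub_cancel]; ring
  let W : Type _ := {w : {i : G // orderOf i = 2} // ∀ P : Pts M, w.1 • P ≠ P}
  have hWcard : Nat.card W + Nat.card (Fixing M) = Nat.card {i : G // orderOf i = 2} := by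
    rw [← Nat.card_sum]
    refine Nat.card_congr ((Equiv.sumCongr (Equiv.refl W) ?_).trans
      (Equiv.sumCompl fun w : {i : G // orderOf i = 2} => ∀ P : Pts M, w.1 • P ≠ P))
    exact
      { toFun := fun v => ⟨⟨v.1, v.2.1⟩, fun h => v.2.2.elim h⟩
        invFun := fun v => ⟨v.1.1, v.1.2, by simpa using v.2⟩
        left_inv := fun _ => rfl
        right_inv := fun _ => rfl }
  let j : Option W → K := fun o => o.elim (1 : K) fun w => ⟨w.1.1, hW _ w.1.2 w.2⟩
  have hjinj : Function.Injective j := by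
    rintro (_ | a) (_ | b) e
    · rfl
    · have := b.1.2
      rw [← show (1 : G) = b.1.1 from congrArg Subtype.val e, orderOf_one] at this
      omega
    · have := a.1.2
      rw [show a.1.1 = (1 : G) from congrArg Subtype.val e, orderOf_one] at this
      omega
    · exact congrArg some (Subtype.ext (Subtype.ext
        (show a.1.1 = b.1.1 from congrArg (fun k : K => (k : G)) e)))
  have hopt : Nat.card (Option W) = Q * Q := by
    rw [Finite.card_option]
    rw [hB.card_involutions, hB.card_Cz_two hr, hm] at hWcard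
    obtain ⟨w, hw⟩ : ∃ w, Q = w + 1 := ⟨Q - 1, by omega⟩
    have hr' : Nat.card (Fix M z) = w := by omega
    rw [hr'] at hT hWcard
    rw [hw] at hT hWcard ⊢
    have hT' : Nat.card (Fixing M) = (w + 1) * (w + 2) := by
      refine Nat.eq_of_mul_eq_mul_right (show 0 < w + 1 by omega) (hT.trans ?_)
      ring
    rw [hT'] at hWcard
    nlinarith
  have hKcard : Nat.card K = Q * Q := by
    refine le_antisymm ?_ (hopt ▸ Nat.card_le_card_of_injective j hjinj)
    rw [← hn]
    refine Nat.card_le_card_of_injective (fun k : K => (k : G) • base M) ?_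
    intro a b e
    have h1 : (b : G)⁻¹ * a ∈ K ⊓ normalizer (M : Set G) :=
      ⟨K.mul_mem (K.inv_mem b.2) a.2, smul_base_eq_iff.1 (by rw [mul_smul, inv_smul_eq_iff]; exact e)⟩
    rw [hKN, mem_bot, inv_mul_eq_one] at h1
    exact Subtype.ext h1.symm
  have hKsq : ∀ k ∈ K, k * k = 1 := by
    intro k hk
    have hg : Function.Bijective j :=
      (Nat.bijective_iff_injective_and_card j).2 ⟨hjinj, hopt.trans hKcard.symm⟩
    obtain ⟨_ | w, e⟩ := hg.2 ⟨k, hk⟩
    · rw [← show (1 : G) = k from congrArg Subtype.val e, one_mul]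
    · rw [← show w.1.1 = k from congrArg Subtype.val e]; exact sq_eq_one w.1.2
  have hKcomm : ∀ a ∈ K, ∀ b ∈ K, a * b = b * a := fun a ha b hb => by
    calc a * b = (a * b)⁻¹ := eq_inv_of_mul_eq_one_left (hKsq _ (mul_mem ha hb))
      _ = b * a := by
        rw [mul_inv_rev, inv_eq_of_mul_eq_one_right (hKsq a ha), inv_eq_of_mul_eq_one_right (hKsq b hb)]
  have hcompl : IsComplement' K (normalizer (M : Set G)) := by
    refine isComplement'_of_card_mul_and_disjoint ?_ (disjoint_iff.2 hKN)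
    rw [hKcard, hB.card_group, hn, hB.card_normalizer]
  -- `M` is cyclic
  haveI : IsMulCommutative K := ⟨⟨fun a b => Subtype.ext (hKcomm a a.2 b b.2)⟩⟩
  haveI hMc : IsCyclic M := by
    let _ : CommGroup K := { (inferInstance : Group K) with
      mul_comm := fun a b => Subtype.ext (hKcomm a a.2 b b.2) }
    let φ : M →* MulAut K := (MulAut.conjNormal (H := K)).comp M.subtype
    haveI : Nontrivial K := Finite.one_lt_card_iff_nontrivial.1 (by
      rw [hKcard]; calc 1 < 4 * 4 := by norm_num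
        _ ≤ Q * Q := Nat.mul_le_mul hq4 hq4)
    refine Frobenius.Fpf.isCyclic_of_comm (φ := φ) (fun a ha v hv => ?_)
      (fun a b => Subtype.ext (hB.comm a.2 b.2))
    by_contra hv1
    have hv2 : orderOf (v : G) = 2 := orderOf_eq_prime (by rw [pow_two]; exact hKsq _ v.2)
      fun h => hv1 (Subtype.ext h)
    refine hB.not_commute hv2 a.2 (fun h => ha (Subtype.ext h)) ?_
    have h1 : (a : G) * v * (a : G)⁻¹ = v := congrArg Subtype.val hv
    exact (mul_inv_eq_iff_eq_mul.1 h1).symm
  refine ⟨K, hKn, ⟨inferInstance, fun a ha => by rw [pow_two]; exact hKsq a ha⟩,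
    by rw [hKcard, hQdef, two_mul, pow_add], hKN, hcompl.sup_eq_top, ?_⟩
  obtain ⟨a, ha⟩ := IsCyclic.exists_generator (α := M)
  refine PGroup.dihedralEquivOfRel
    (a := ⟨(a : G), hB.mem_normalizer a.2⟩) (b := ⟨z, hB.zN⟩) ?_ ?_ ?_ ?_ ?_
  · rw [orderOf_mk, orderOf_coe, orderOf_eq_card_of_forall_mem_zpowers ha, hm]
  · rintro ⟨k, hk⟩
    have h1 : (a : G) ^ k = z := congrArg Subtype.val hk
    have h2 : z ∈ M := h1 ▸ zpow_mem a.2 k
    exact hB.not_commute hB.hz h2 (fun e => by
      have := hB.hz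
      rw [e, orderOf_one] at this
      omega) rfl
  · exact Subtype.ext (by rw [SubgroupClass.coe_pow, pow_two]; exact sq_eq_one hB.hz)
  · exact Subtype.ext (hB.inv_z a.2)
  · rw [hB.card_normalizer, hB.card_Cz_two hr, hm, mul_comm]

end Big

end Cfsg.Agent.TIInv
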