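import Cfsg.Prelude.Def_Transfer
import Mathlib

/-!
# TI-subgroups with odd centralisers normalised by an involution

`M` is TI, `N(M) = M C` with `C` centralising an involution `z ∈ N(M)`, and the centralisers of the
non-trivial elements of `M` have odd order.  Then `z` inverts `M`, `M` is abelian, `C` contains a
unique involution and the involutions of `N(M)` form the coset `z M`.
-/

set_option autoImplicit false
set_option linter.style.haveILetI false
set_option linter.unusedSectionVars false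

namespace Cfsg.Agent.TIInv

open Subgroup

/-- The hypothesis. -/
structure Hyp {G : Type*} [Group G] (M : Subgroup G) (z : G) : Prop where
  ne_bot : M ≠ ⊥
  ti : ∀ g : G, M ⊓ M.map (MulAut.conj g).toMonoidHom ≠ ⊥ → M.map (MulAut.conj g).toMonoidHom = M
  hz : orderOf z = 2
  zN : z ∈ normalizer (M : Set G)
  fac : M ⊔ (normalizer (M : Set G) ⊓ centralizer ({z} : Set G)) = normalizer (M : Set G)
  odd : ∀ x ∈ M, x ≠ 1 → Odd (Nat.card (centralizer ({x} : Set G)))

variable {G : Type*} [Group G] {M : Subgroup G} {z : G}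

/-- The complement. -/
def Cz (M : Subgroup G) (z : G) : Subgroup G :=
  normalizer (M : Set G) ⊓ centralizer ({z} : Set G)

theorem sq_eq_one {x : G} (hx : orderOf x = 2) : x * x = 1 := by
  rw [← pow_two, ← hx, pow_orderOf_eq_one]

theorem inv_eq_self {x : G} (hx : orderOf x = 2) : x⁻¹ = x :=
  inv_eq_of_mul_eq_one_right (sq_eq_one hx)

theorem mem_Cz {k : G} : k ∈ Cz M z ↔ k ∈ normalizer (M : Set G) ∧ k * z = z * k :=
  and_congr_right fun _ => mem_centralizer_singleton_iff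

variable [Finite G]

theorem eq_one_of_sq (hM : Odd (Nat.card M)) {x : G} (hx : x ∈ M) (h : x * x = 1) : x = 1 := by
  obtain ⟨k, hk⟩ := hM
  have h1 : (⟨x, hx⟩ : M) ^ Nat.card M = 1 := pow_card_eq_one'
  have h2 : x ^ Nat.card M = 1 := congrArg Subtype.val h1
  rw [hk, pow_succ, pow_mul, pow_two, h, one_pow, one_mul] at h2
  exact h2

namespace Hyp

variable (hy : Hyp M z)
include hy

/-- An involution commutes with no non-trivial element of `M`. -/
theorem not_commute {w x : G} (hw : orderOf w = 2) (hx : x ∈ M) (hx1 : x ≠ 1) :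
    w * x ≠ x * w := fun h => by
  have h2 := (centralizer ({x} : Set G)).orderOf_dvd_natCard
    (mem_centralizer_singleton_iff.2 h)
  rw [hw] at h2
  exact Nat.not_even_iff_odd.2 (hy.odd x hx hx1) (even_iff_two_dvd.2 h2)

theorem card_odd : Odd (Nat.card M) := by
  haveI : Fact (Nat.Prime 2) := ⟨Nat.prime_two⟩
  rw [← Nat.not_even_iff_odd, even_iff_two_dvd]
  intro h
  obtain ⟨x, hx⟩ := exists_prime_orderOf_dvd_card' (G := M) 2 h
  rw [← orderOf_coe] at hx
  exact hy.not_commute hx x.2 (fun h1 => by rw [h1, orderOf_one] at hx; omega) rfl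

/-- An involution normalising `M` inverts it. -/
theorem inv_of_involution {w : G} (hw : orderOf w = 2) (hwN : w ∈ normalizer (M : Set G)) {x : G}
    (hx : x ∈ M) : w * x * w⁻¹ = x⁻¹ := by
  let φ : M →* M :=
    { toFun := fun y => ⟨w * y * w⁻¹, (mem_normalizer_iff.1 hwN y).1 y.2⟩
      map_one' := Subtype.ext (by simp)
      map_mul' := fun a b => Subtype.ext (by simp [mul_assoc]) }
  have hf : MonoidHom.FixedPointFree φ := fun y hy' => by
    have h1 : w * (y : G) * w⁻¹ = y := congrArg Subtype.val hy'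
    by_contra hy1
    exact hy.not_commute hw y.2 (fun e => hy1 (Subtype.ext e)) (mul_inv_eq_iff_eq_mul.1 h1)
  have h2 : Function.Involutive φ := fun y => Subtype.ext (by
    show w * (w * (y : G) * w⁻¹) * w⁻¹ = y
    rw [inv_eq_self hw, ← mul_assoc, ← mul_assoc, sq_eq_one hw, one_mul, mul_assoc, sq_eq_one hw,
      mul_one])
  exact congrArg Subtype.val (congrFun (hf.coe_eq_inv_of_involutive h2) ⟨x, hx⟩)

theorem inv_z {x : G} (hx : x ∈ M) : z * x * z⁻¹ = x⁻¹ := hy.inv_of_involution hy.hz hy.zN hx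

theorem comm {x y : G} (hx : x ∈ M) (hy' : y ∈ M) : x * y = y * x := by
  have h := hy.inv_z (mul_mem hx hy')
  rw [show z * (x * y) * z⁻¹ = (z * x * z⁻¹) * (z * y * z⁻¹) by group, hy.inv_z hx, hy.inv_z hy',
    ← mul_inv_rev] at h
  exact (inv_injective h).symm

theorem eq_one_of_mem_Cz {x : G} (hx : x ∈ M) (hC : x ∈ Cz M z) : x = 1 :=
  by_contra fun h => hy.not_commute hy.hz hx h (mem_Cz.1 hC).2.symm

theorem z_mem_Cz : z ∈ Cz M z := mem_Cz.2 ⟨hy.zN, rfl⟩

/-- `C` has a unique involution. -/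
theorem eq_z {k : G} (hk : k ∈ Cz M z) (hk2 : orderOf k = 2) : k = z := by
  obtain ⟨hkN, hkz⟩ := mem_Cz.1 hk
  by_contra hne
  obtain ⟨x, hx, hx1⟩ := M.bot_or_exists_ne_one.resolve_left hy.ne_bot
  refine hy.not_commute (w := k * z) ?_ hx hx1 ?_
  · refine orderOf_eq_prime ?_ fun h => hne ?_
    · calc (k * z) ^ 2 = (k * z) * (z * k) := by rw [pow_two, hkz]
        _ = k * (z * z) * k := by simp only [mul_assoc]
        _ = 1 := by rw [sq_eq_one hy.hz, mul_one, sq_eq_one hk2]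
    · rw [← inv_eq_self hy.hz]
      exact eq_inv_of_mul_eq_one_left h
  · have h1 := hy.inv_z hx
    have h2 := hy.inv_of_involution hk2 hkN (inv_mem hx)
    rw [inv_inv, ← h1] at h2
    calc k * z * x = (k * (z * x * z⁻¹) * k⁻¹) * (k * z) := by group
      _ = _ := by rw [h2]

theorem exists_decomp {g : G} (hg : g ∈ normalizer (M : Set G)) :
    ∃ k ∈ Cz M z, ∃ x ∈ M, g = k * x := by
  have h : g ∈ ((Cz M z ⊔ M : Subgroup G) : Set G) := by
    rw [sup_comm]
    exact hy.fac.symm ▸ hg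
  rw [coe_mul_of_left_le_normalizer_right (Cz M z) M inf_le_left] at h
  obtain ⟨k, hk, x, hx, rfl⟩ := h
  exact ⟨k, hk, x, hx, rfl⟩

theorem decomp_unique {k k' x x' : G} (hk : k ∈ Cz M z) (hk' : k' ∈ Cz M z) (hx : x ∈ M)
    (hx' : x' ∈ M) (h : k * x = k' * x') : k = k' ∧ x = x' := by
  have h1 : k'⁻¹ * k = x' * x⁻¹ := by
    rw [inv_mul_eq_iff_eq_mul, ← mul_assoc, ← h, mul_inv_cancel_right]
  have h2 : x' * x⁻¹ = 1 :=
    hy.eq_one_of_mem_Cz (mul_mem hx' (inv_mem hx)) (h1 ▸ mul_mem (inv_mem hk') hk)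
  have h3 : x = x' := (mul_inv_eq_one.1 h2).symm
  exact ⟨by rw [h3] at h; exact mul_right_cancel h, h3⟩

theorem mem_normalizer {x : G} (hx : x ∈ M) : x ∈ normalizer (M : Set G) := le_normalizer hx

/-- The projection `N(M) → C`. -/
noncomputable def part : normalizer (M : Set G) →* Cz M z where
  toFun g := ⟨(hy.exists_decomp g.2).choose, (hy.exists_decomp g.2).choose_spec.1⟩
  map_one' := by
    obtain ⟨x, hx, h⟩ := (hy.exists_decomp (one_mem (normalizer (M : Set G)))).choose_spec.2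
    exact Subtype.ext (hy.decomp_unique (hy.exists_decomp (one_mem _)).choose_spec.1 (one_mem _) hx
      (one_mem M) (by rw [← h, one_mul])).1
  map_mul' a b := by
    obtain ⟨hk, x, hx, h⟩ := (hy.exists_decomp (a * b).2).choose_spec
    obtain ⟨hk₁, x₁, hx₁, h₁⟩ := (hy.exists_decomp a.2).choose_spec
    obtain ⟨hk₂, x₂, hx₂, h₂⟩ := (hy.exists_decomp b.2).choose_spec
    set k₁ := (hy.exists_decomp a.2).choose
    set k₂ := (hy.exists_decomp b.2).choose
    refine Subtype.ext (hy.decomp_unique hk (mul_mem hk₁ hk₂) hx (x' := k₂⁻¹ * x₁ * k₂ * x₂)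
      (mul_mem ((mem_normalizer_iff''.1 hk₂.1 x₁).1 hx₁) hx₂) ?_).1
    rw [← h]
    show (a : G) * b = _
    rw [h₁, h₂]
    group

theorem part_eq {k x : G} (hk : k ∈ Cz M z) (hx : x ∈ M) (h : k * x ∈ normalizer (M : Set G)) :
    (hy.part ⟨k * x, h⟩ : G) = k := by
  obtain ⟨hk', x', hx', h'⟩ := (hy.exists_decomp h).choose_spec
  exact (hy.decomp_unique hk' hk hx' hx h'.symm).1

theorem part_spec (g : normalizer (M : Set G)) : ∃ x ∈ M, (g : G) = hy.part g * x :=
  (hy.exists_decomp g.2).choose_spec.2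

theorem part_eq_one_iff (g : normalizer (M : Set G)) : hy.part g = 1 ↔ (g : G) ∈ M := by
  obtain ⟨x, hx, h⟩ := hy.part_spec g
  refine ⟨fun h1 => by rw [h, h1, OneMemClass.coe_one, one_mul]; exact hx, fun hg => Subtype.ext ?_⟩
  exact (hy.decomp_unique (hy.part g).2 (one_mem _) hx hg (by rw [← h, one_mul])).1

theorem card_normalizer :
    Nat.card (normalizer (M : Set G)) = Nat.card M * Nat.card (Cz M z) := by
  rw [← Nat.card_prod]
  refine (Nat.card_eq_of_bijective (fun d : M × Cz M z =>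
    (⟨d.2 * d.1, mul_mem d.2.2.1 (hy.mem_normalizer d.1.2)⟩ : normalizer (M : Set G))) ⟨?_, ?_⟩).symm
  · rintro ⟨x, k⟩ ⟨x', k'⟩ h
    obtain ⟨h1, h2⟩ := hy.decomp_unique k.2 k'.2 x.2 x'.2 (congrArg Subtype.val h)
    exact Prod.ext (Subtype.ext h2) (Subtype.ext h1)
  · rintro ⟨g, hg⟩
    obtain ⟨k, hk, x, hx, rfl⟩ := hy.exists_decomp hg
    exact ⟨(⟨x, hx⟩, ⟨k, hk⟩), rfl⟩

theorem orderOf_z_mul {x : G} (hx : x ∈ M) : orderOf (z * x) = 2 := by
  refine orderOf_eq_prime ?_ fun h => ?_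
  · calc (z * x) ^ 2 = (z * x * z⁻¹) * (z * z) * x := by rw [pow_two]; group
      _ = 1 := by rw [hy.inv_z hx, sq_eq_one hy.hz, mul_one, inv_mul_cancel]
  · refine hy.not_commute hy.hz hx (fun e => ?_) ?_
    · have h2 := hy.hz
      rw [e, mul_one] at h
      rw [h, orderOf_one] at h2
      omega
    · have hx' : x = z⁻¹ := eq_inv_of_mul_eq_one_right h
      rw [hx', inv_eq_self hy.hz]

/-- The involutions of `N(M)`. -/
theorem involution_cases {w : G} (hw : orderOf w = 2) (hwN : w ∈ normalizer (M : Set G)) :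
    ∃ x ∈ M, w = z * x := by
  obtain ⟨x, hx, h⟩ := hy.part_spec ⟨w, hwN⟩
  refine ⟨x, hx, ?_⟩
  have h1 : hy.part ⟨w, hwN⟩ ^ 2 = 1 := by
    rw [← map_pow, show (⟨w, hwN⟩ : normalizer (M : Set G)) ^ 2 = 1 from
      Subtype.ext (by simp [pow_two, sq_eq_one hw]), map_one]
  have h2 : (hy.part ⟨w, hwN⟩ : G) ≠ 1 := fun e => by
    change w = _ at h
    rw [e, one_mul] at h
    exact hy.not_commute hw (h ▸ hx) (fun e1 => by rw [e1, orderOf_one] at hw; omega) rfl
  change w = _ at h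
  conv_lhs => rw [h]
  rw [hy.eq_z (hy.part ⟨w, hwN⟩).2 (orderOf_eq_prime (congrArg Subtype.val h1) h2)]

/-- Two involutions of `N(M)` commute only if they are equal. -/
theorem eq_of_commute {v w : G} (hv : orderOf v = 2) (hw : orderOf w = 2)
    (hvN : v ∈ normalizer (M : Set G)) (hwN : w ∈ normalizer (M : Set G)) (h : v * w = w * v) :
    v = w := by
  obtain ⟨x, hx, rfl⟩ := hy.involution_cases hv hvN
  obtain ⟨y, hy', rfl⟩ := hy.involution_cases hw hwN
  have e1 : ∀ a ∈ M, ∀ b : G, z * a * (z * b) = a⁻¹ * b := fun a ha b => by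
    calc z * a * (z * b) = (z * a * z⁻¹) * (z * z) * b := by group
      _ = _ := by rw [hy.inv_z ha, sq_eq_one hy.hz, mul_one]
  rw [e1 x hx, e1 y hy', hy.comm (inv_mem hy') hx] at h
  have h1 : (x⁻¹ * y) * (x⁻¹ * y) = 1 := by
    nth_rw 2 [h]
    calc x⁻¹ * y * (x * y⁻¹) = x⁻¹ * (y * x) * y⁻¹ := by group
      _ = 1 := by rw [hy.comm hy' hx]; group
  rw [inv_mul_eq_one.1 (eq_one_of_sq hy.card_odd (mul_mem (inv_mem hx) hy') h1)]

theorem card_involutions :
    Nat.card {w : G // orderOf w = 2 ∧ w ∈ normalizer (M : Set G)} = Nat.card M :=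
  (Nat.card_eq_of_bijective
    (fun x : M => (⟨z * x, hy.orderOf_z_mul x.2, mul_mem hy.zN (hy.mem_normalizer x.2)⟩ :
      {w : G // orderOf w = 2 ∧ w ∈ normalizer (M : Set G)}))
    ⟨fun _ _ h => Subtype.ext (mul_left_cancel (congrArg Subtype.val h)), fun w => by
      obtain ⟨x, hx, e⟩ := hy.involution_cases w.2.1 w.2.2
      exact ⟨⟨x, hx⟩, Subtype.ext e.symm⟩⟩).symm

end Hyp

end Cfsg.Agent.TIInv
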