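import Cfsg.Agent.Lib.TIInvolution.Basic

/-!
# Involutions exchanging two conjugates of `M`

If `G` has more than `|G : M|` involutions then every two distinct conjugates of `M` are exchanged
by exactly `c = |C|` elements, all of them involutions, and the stabiliser of both has order `c`
and meets `M` trivially.
-/

set_option autoImplicit false
set_option linter.style.haveILetI false
set_option linter.unusedSectionVars false

namespace Cfsg.Agent.TIInv

open Subgroup MulAction

variable {G : Type*} [Group G] {M : Subgroup G} {z : G}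

/-- The conjugates of `M`. -/
abbrev Pts (M : Subgroup G) : Type _ := G ⧸ normalizer (M : Set G)

/-- The point `M`. -/
def base (M : Subgroup G) : Pts M := ((1 : G) : Pts M)

theorem smul_base_eq_iff {g : G} : g • base M = base M ↔ g ∈ normalizer (M : Set G) := by
  rw [base, MulAction.Quotient.smul_coe, smul_eq_mul, mul_one, QuotientGroup.eq, mul_one, inv_mem_iff]

theorem smul_mk_eq_iff {g a : G} : g • (a : Pts M) = (a : Pts M) ↔
    a⁻¹ * g * a ∈ normalizer (M : Set G) := by
  rw [MulAction.Quotient.smul_coe, smul_eq_mul, eq_comm, QuotientGroup.eq, mul_assoc]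

theorem mk_ne_base {a : G} (ha : a ∉ normalizer (M : Set G)) : (a : Pts M) ≠ base M := fun h => ha (by
  rwa [base, QuotientGroup.eq, mul_one, inv_mem_iff] at h)

theorem exists_rep {P : Pts M} (hP : P ≠ base M) :
    ∃ a : G, (a : Pts M) = P ∧ a ∉ normalizer (M : Set G) := by
  induction P using QuotientGroup.induction_on with
  | _ a =>
    exact ⟨a, rfl, fun h => hP (by rwa [base, QuotientGroup.eq, mul_one, inv_mem_iff])⟩

/-- The involutions moving `M` to `P`. -/
abbrev Sw (M : Subgroup G) (P : Pts M) : Type _ := {i : G // orderOf i = 2 ∧ i • base M = P}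

/-- The stabiliser of `M` and `P`. -/
def twoStab (M : Subgroup G) (P : Pts M) : Subgroup G :=
  normalizer (M : Set G) ⊓ stabilizer G P

theorem mem_twoStab {P : Pts M} {g : G} :
    g ∈ twoStab M P ↔ g ∈ normalizer (M : Set G) ∧ g • P = P := Iff.rfl

theorem swap_back {P : Pts M} {i : G} (hi : orderOf i = 2) (h : i • base M = P) :
    i • P = base M := by rw [← h, ← mul_smul, sq_eq_one hi, one_smul]

theorem inv_mul_mem_twoStab {P : Pts M} {i g : G} (hi : orderOf i = 2) (h : i • base M = P)
    (hg : g • base M = P) (hg' : g • P = base M) : i⁻¹ * g ∈ twoStab M P := by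
  refine ⟨smul_base_eq_iff.1 ?_, mem_stabilizer_iff.2 ?_⟩ <;>
    rw [mul_smul, inv_smul_eq_iff]
  · rw [hg, h]
  · rw [hg', swap_back hi h]

variable [Finite G] (hy : Hyp M z)
include hy

namespace Hyp

/-- A left coset of `M` outside `N(M)` contains at most one involution. -/
theorem sw_inj {P : Pts M} (hP : P ≠ base M) {i j : G} (hi : orderOf i = 2) (h : i • base M = P)
    (hj : orderOf j = 2) (hij : i⁻¹ * j ∈ M) : i = j := by
  by_contra hne
  set x := i⁻¹ * j with hx
  refine hP ?_
  rw [← h, smul_base_eq_iff]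
  have hmap : M.map (MulAut.conj i).toMonoidHom = M := by
    refine hy.ti i fun hbot => ?_
    have hxm : x⁻¹ ∈ M ⊓ M.map (MulAut.conj i).toMonoidHom := by
      refine mem_inf.2 ⟨inv_mem hij, mem_map.2 ⟨x, hij, ?_⟩⟩
      show i * x * i⁻¹ = x⁻¹
      rw [hx, mul_inv_rev, inv_inv, inv_eq_self hi, inv_eq_self hj, ← mul_assoc, sq_eq_one hi,
        one_mul]
    rw [hbot, mem_bot, inv_eq_one, hx, inv_mul_eq_one] at hxm
    exact hne hxm
  rw [mem_normalizer_iff]
  intro y
  refine ⟨fun hy' => hmap ▸ ⟨y, hy', rfl⟩, fun hy' => ?_⟩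
  obtain ⟨y', hy'', e⟩ := hmap.ge hy'
  have e' : y' = y := (MulAut.conj i).injective e
  exact e' ▸ hy''

/-- The projection of a two-point stabiliser to `C`. -/
noncomputable def proj (P : Pts M) : twoStab M P →* Cz M z :=
  hy.part.comp (Subgroup.inclusion inf_le_left)

theorem mem_ker_proj {P : Pts M} {g : twoStab M P} : g ∈ (hy.proj P).ker ↔ (g : G) ∈ M :=
  hy.part_eq_one_iff _

theorem card_twoStab (P : Pts M) : Nat.card (twoStab M P) =
    Nat.card (twoStab M P ⊓ M : Subgroup G) * Nat.card (hy.proj P).range := by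
  rw [← (hy.proj P).ker.card_mul_index, index_ker]
  congr 1
  exact Nat.card_congr
    { toFun := fun g => ⟨(g.1 : G), g.1.2, hy.mem_ker_proj.1 g.2⟩
      invFun := fun g => ⟨⟨g.1, g.2.1⟩, hy.mem_ker_proj.2 g.2.2⟩
      left_inv := fun _ => rfl
      right_inv := fun _ => rfl }

/-- At most one swapping involution for each element of the image in `C`. -/
theorem card_sw_le_range {P : Pts M} (hP : P ≠ base M) :
    Nat.card (Sw M P) ≤ Nat.card (hy.proj P).range := by
  rcases isEmpty_or_nonempty (Sw M P) with h | ⟨⟨i, hi⟩⟩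
  · simp
  let f : Sw M P → twoStab M P := fun j =>
    ⟨i⁻¹ * j.1, inv_mul_mem_twoStab hi.1 hi.2 j.2.2 (swap_back j.2.1 j.2.2)⟩
  refine Nat.card_le_card_of_injective
    (fun j => (⟨hy.proj P (f j), f j, rfl⟩ : (hy.proj P).range)) fun j k e => Subtype.ext ?_
  have e' : hy.proj P (f j) = hy.proj P (f k) := congrArg Subtype.val e
  have hmem : (f j)⁻¹ * f k ∈ (hy.proj P).ker := by
    rw [MonoidHom.mem_ker, map_mul, map_inv, e', inv_mul_cancel]
  have hM := hy.mem_ker_proj.1 hmem
  refine hy.sw_inj hP j.2.1 j.2.2 k.2.1 ?_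
  simpa [f, mul_assoc] using hM

theorem card_range_le (P : Pts M) : Nat.card (hy.proj P).range ≤ Nat.card (Cz M z) :=
  Nat.card_le_card_of_injective (fun g : (hy.proj P).range => (g : Cz M z)) Subtype.val_injective

theorem card_sw_le {P : Pts M} (hP : P ≠ base M) : Nat.card (Sw M P) ≤ Nat.card (Cz M z) :=
  (hy.card_sw_le_range hP).trans (hy.card_range_le P)

theorem card_involutions_eq [Fintype (Pts M)] [DecidableEq (Pts M)] :
    Nat.card {i : G // orderOf i = 2} =
      Nat.card M + ∑ P ∈ Finset.univ.erase (base M), Nat.card (Sw M P) := by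
  have h1 : Nat.card {i : G // orderOf i = 2} = ∑ P : Pts M, Nat.card (Sw M P) := by
    rw [← Nat.card_sigma]
    exact Nat.card_congr
      ((Equiv.sigmaFiberEquiv fun i : {i : G // orderOf i = 2} => (i : G) • base M).symm.trans
        (Equiv.sigmaCongrRight fun P =>
          Equiv.subtypeSubtypeEquivSubtypeInter _ fun i : G => i • base M = P))
  rw [h1, ← Finset.add_sum_erase _ _ (Finset.mem_univ (base M))]
  congr 1
  rw [← hy.card_involutions]
  exact Nat.card_congr (Equiv.subtypeEquivRight fun i => by rw [smul_base_eq_iff])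

theorem card_sw_smul {k : G} (hk : k ∈ normalizer (M : Set G)) (P : Pts M) :
    Nat.card (Sw M (k • P)) = Nat.card (Sw M P) := by
  symm
  refine Nat.card_congr ((MulAut.conj k).toEquiv.subtypeEquiv fun i => ?_)
  show _ ↔ orderOf (MulAut.conj k i) = 2 ∧ (k * i * k⁻¹) • base M = k • P
  rw [MulEquiv.orderOf_eq, mul_smul, mul_smul,
    smul_base_eq_iff.2 (inv_mem hk), smul_left_cancel_iff]

/-- The deficiencies along an orbit of `N(M)`. -/
theorem deficit_lt
    (hbig : M.index < Nat.card {i : G // orderOf i = 2}) {P : Pts M} (hP : P ≠ base M) :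
    Nat.card (Cz M z) * (Nat.card (Cz M z) - Nat.card (Sw M P)) < Nat.card (twoStab M P) := by
  classical
  haveI := Fintype.ofFinite (Pts M)
  set N := normalizer (M : Set G) with hN
  set c := Nat.card (Cz M z)
  set m := Nat.card M with hm
  set O := (Finset.univ : Finset (Pts M)).filter (fun Q => Q ∈ orbit N P) with hO
  have hsub : O ⊆ Finset.univ.erase (base M) := by
    intro Q hQ
    refine Finset.mem_erase.2 ⟨fun e => hP ?_, Finset.mem_univ _⟩
    obtain ⟨k, rfl⟩ := (Finset.mem_filter.1 hQ).2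
    have h1 : (k : G) • P = base M := e
    rw [← smul_base_eq_iff.2 (inv_mem k.2 : (k : G)⁻¹ ∈ N), ← h1, inv_smul_smul]
  -- the total deficiency is less than `m`
  have hidx : M.index = Fintype.card (Pts M) * c := by
    have h1 := M.card_mul_index
    have h2 := N.card_mul_index
    rw [hy.card_normalizer, ← h1, mul_assoc, index_eq_card, mul_comm _ (Nat.card (G ⧸ N))] at h2
    rw [← Nat.card_eq_fintype_card (α := Pts M)]
    exact (Nat.eq_of_mul_eq_mul_left Nat.card_pos h2).symm
  have hcard : (Finset.univ.erase (base M)).card + 1 = Fintype.card (Pts M) := by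
    rw [Finset.card_erase_add_one (Finset.mem_univ _), Finset.card_univ]
  have htot : (∑ Q ∈ Finset.univ.erase (base M), (c - Nat.card (Sw M Q))) +
      ∑ Q ∈ Finset.univ.erase (base M), Nat.card (Sw M Q) =
      (Finset.univ.erase (base M)).card * c := by
    rw [← Finset.sum_add_distrib, ← smul_eq_mul, ← Finset.sum_const]
    exact Finset.sum_congr rfl fun Q hQ =>
      Nat.sub_add_cancel (hy.card_sw_le (Finset.mem_erase.1 hQ).1)
  have hlt : ∑ Q ∈ O, (c - Nat.card (Sw M Q)) < m := by
    refine lt_of_le_of_lt (Finset.sum_le_sum_of_subset hsub) ?_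
    rw [hy.card_involutions_eq, hidx, ← hcard, add_mul, one_mul] at hbig
    omega
  have hconst : ∑ Q ∈ O, (c - Nat.card (Sw M Q)) = O.card * (c - Nat.card (Sw M P)) := by
    rw [← smul_eq_mul, ← Finset.sum_const]
    refine Finset.sum_congr rfl fun Q hQ => ?_
    obtain ⟨k, rfl⟩ := (Finset.mem_filter.1 hQ).2
    show c - Nat.card (Sw M ((k : G) • P)) = _
    rw [hy.card_sw_smul k.2]
  have horb : O.card * Nat.card (twoStab M P) = m * c := by
    rw [← hy.card_normalizer, ← (stabilizer N P).index_mul_card, index_stabilizer,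
      ← Nat.card_coe_set_eq]
    congr 1
    · rw [hO, ← Fintype.card_subtype, ← Nat.card_eq_fintype_card]
    · exact Nat.card_congr
        { toFun := fun g => ⟨⟨g.1, g.2.1⟩, g.2.2⟩
          invFun := fun g => ⟨g.1.1, g.1.2, g.2⟩
          left_inv := fun _ => rfl
          right_inv := fun _ => rfl }
  rw [hconst] at hlt
  refine Nat.lt_of_mul_lt_mul_left (a := O.card) ?_
  calc O.card * (c * (c - Nat.card (Sw M P))) = O.card * (c - Nat.card (Sw M P)) * c := by ring
    _ < m * c := Nat.mul_lt_mul_of_pos_right hlt Nat.card_pos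
    _ = _ := horb.symm

theorem eq_base_of_mem {P : Pts M} {x : G} (hx : x ∈ M) {a : G} (ha : (a : Pts M) = P)
    (hax : a⁻¹ * x * a ∈ M) (hx1 : x ≠ 1) : P = base M := by
  have hmap : M.map (MulAut.conj a).toMonoidHom = M := by
    refine hy.ti a fun hbot => hx1 ?_
    have : x ∈ M ⊓ M.map (MulAut.conj a).toMonoidHom :=
      mem_inf.2 ⟨hx, mem_map.2 ⟨_, hax, by show a * (a⁻¹ * x * a) * a⁻¹ = x; group⟩⟩
    rwa [hbot, mem_bot] at this
  rw [← ha, base, QuotientGroup.eq, mul_one, inv_mem_iff, mem_normalizer_iff]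
  intro y
  refine ⟨fun hy' => hmap ▸ ⟨y, hy', rfl⟩, fun hy' => ?_⟩
  obtain ⟨y', hy'', e⟩ := hmap.ge hy'
  exact (MulAut.conj a).injective e ▸ hy''

theorem card_inf_le {P : Pts M} (hP : P ≠ base M) :
    Nat.card (twoStab M P ⊓ M : Subgroup G) ≤ Nat.card (Cz M z) := by
  obtain ⟨a, ha, haN⟩ := exists_rep hP
  let f : (twoStab M P ⊓ M : Subgroup G) → normalizer (M : Set G) := fun x =>
    ⟨a⁻¹ * x * a, smul_mk_eq_iff.1 (by rw [ha]; exact x.2.1.2)⟩
  refine Nat.card_le_card_of_injective (fun x => hy.part (f x)) fun x y e => ?_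
  have hmem : (f x)⁻¹ * f y ∈ hy.part.ker := by
    have e' : hy.part (f x) = hy.part (f y) := e
    rw [MonoidHom.mem_ker, map_mul, map_inv, e', inv_mul_cancel]
  have hM : a⁻¹ * ((x : G)⁻¹ * y) * a ∈ M := by
    have := (hy.part_eq_one_iff _).1 hmem
    simpa [f, mul_assoc] using this
  by_contra hne
  refine hP (hy.eq_base_of_mem (mul_mem (inv_mem x.2.2) y.2.2) ha hM fun h => hne ?_)
  exact Subtype.ext (inv_mul_eq_one.1 h)

theorem card_inf_le_range {P : Pts M} (hP : P ≠ base M) {i : G} (hi : orderOf i = 2)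
    (h : i • base M = P) :
    Nat.card (twoStab M P ⊓ M : Subgroup G) ≤ Nat.card (hy.proj P).range := by
  have hmem : ∀ x : (twoStab M P ⊓ M : Subgroup G), i * x * i ∈ twoStab M P := fun x => by
    refine ⟨smul_base_eq_iff.1 ?_, mem_stabilizer_iff.2 ?_⟩
    · rw [mul_smul, mul_smul, h, x.2.1.2, swap_back hi h]
    · rw [mul_smul, mul_smul, swap_back hi h, smul_base_eq_iff.2 x.2.1.1, h]
  refine Nat.card_le_card_of_injective
    (fun x => (⟨hy.proj P ⟨_, hmem x⟩, _, rfl⟩ : (hy.proj P).range)) fun x y e => ?_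
  have e' : hy.proj P ⟨_, hmem x⟩ = hy.proj P ⟨_, hmem y⟩ := congrArg Subtype.val e
  have hk : (⟨_, hmem x⟩ : twoStab M P)⁻¹ * ⟨_, hmem y⟩ ∈ (hy.proj P).ker := by
    rw [MonoidHom.mem_ker, map_mul, map_inv, e', inv_mul_cancel]
  have hM : i * ((x : G)⁻¹ * y) * i ∈ M := by
    have h1 : (i * (x : G) * i)⁻¹ * (i * y * i) ∈ M := hy.mem_ker_proj.1 hk
    simpa [mul_inv_rev, inv_eq_self hi, mul_assoc, ← mul_assoc i i, sq_eq_one hi] using h1
  by_contra hne
  have hib : (i : Pts M) = P := by
    rw [← h, base, MulAction.Quotient.smul_coe, smul_eq_mul, mul_one]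
  refine hP (hy.eq_base_of_mem (mul_mem (inv_mem x.2.2) y.2.2) hib
    (by rwa [inv_eq_self hi]) fun h' => hne (Subtype.ext (inv_mul_eq_one.1 h')))

/-- An involution of `N(M)` fixing `P` forces the two-point stabiliser to meet `M` trivially. -/
theorem z_not_mem_range {P : Pts M} (hP : P ≠ base M) {i : G} (hi : orderOf i = 2)
    (h : i • base M = P) (hne : twoStab M P ⊓ M ≠ ⊥) :
    (⟨z, hy.z_mem_Cz⟩ : Cz M z) ∉ (hy.proj P).range := by
  rintro ⟨g, hg⟩
  obtain ⟨x, hx, hgx⟩ := hy.part_spec (Subgroup.inclusion inf_le_left g)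
  have hgz : (g : G) = z * x := by
    have : (hy.part (Subgroup.inclusion inf_le_left g) : G) = z := congrArg Subtype.val hg
    rw [this] at hgx
    exact hgx
  have hu : orderOf (g : G) = 2 := hgz ▸ hy.orderOf_z_mul hx
  obtain ⟨y, ⟨hyH, hyM⟩, hy1⟩ := (twoStab M P ⊓ M).bot_or_exists_ne_one.resolve_left hne
  have hconj : i * g * i ∈ normalizer (M : Set G) := smul_base_eq_iff.1 (by
    rw [mul_smul, mul_smul, h, g.2.2, swap_back hi h])
  have hu' : orderOf (i * g * i) = 2 := by
    nth_rw 2 [← inv_eq_self hi]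
    rw [← MulAut.conj_apply, MulEquiv.orderOf_eq, hu]
  have h1 := hy.inv_of_involution hu' hconj hyM
  -- the image `i y i` is inverted by `g`
  have hmem : i * y * i ∈ twoStab M P := by
    refine ⟨smul_base_eq_iff.1 ?_, mem_stabilizer_iff.2 ?_⟩
    · rw [mul_smul, mul_smul, h, hyH.2, swap_back hi h]
    · rw [mul_smul, mul_smul, swap_back hi h, smul_base_eq_iff.2 hyH.1, h]
  have h2 : (g : G) * (i * y * i) * (g : G)⁻¹ = (i * y * i)⁻¹ := by
    calc (g : G) * (i * y * i) * (g : G)⁻¹ = i * ((i * g * i) * y * (i * g * i)⁻¹) * i := by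
          rw [mul_inv_rev, mul_inv_rev, inv_eq_self hi]
          simp [mul_assoc, ← mul_assoc i i, sq_eq_one hi]
      _ = (i * y * i)⁻¹ := by rw [h1, mul_inv_rev, mul_inv_rev, inv_eq_self hi, mul_assoc]
  set k := hy.proj P ⟨_, hmem⟩ with hk
  have h3 : hy.proj P g * k * (hy.proj P g)⁻¹ = k⁻¹ := by
    rw [hk, ← map_mul, ← map_inv, ← map_mul, ← map_inv]
    exact congrArg (hy.proj P) (Subtype.ext h2)
  have h4 : k * k = 1 := by
    have hcomm : hy.proj P g * k = k * hy.proj P g := by
      rw [hg]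
      exact Subtype.ext (mem_Cz.1 k.2).2.symm
    rw [hcomm, mul_inv_cancel_right] at h3
    exact mul_eq_one_iff_eq_inv.2 h3
  have h5 : i * (y * y) * i ∈ M := by
    have h6 : (⟨_, hmem⟩ * ⟨_, hmem⟩ : twoStab M P) ∈ (hy.proj P).ker := by
      rw [MonoidHom.mem_ker, map_mul]; exact h4
    have h7 : i * y * i * (i * y * i) ∈ M := hy.mem_ker_proj.1 h6
    simpa [mul_assoc, ← mul_assoc i i, sq_eq_one hi] using h7
  have hy2 : y * y ≠ 1 := fun e => hy1 (eq_one_of_sq hy.card_odd hyM e)
  have hib : (i : Pts M) = P := by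
    rw [← h, base, MulAction.Quotient.smul_coe, smul_eq_mul, mul_one]
  exact hP (hy.eq_base_of_mem (mul_mem hyM hyM) hib (by rwa [inv_eq_self hi]) hy2)

/-- Every two points are exchanged by `c` involutions and their stabiliser has order `c`. -/
theorem regular (hbig : M.index < Nat.card {i : G // orderOf i = 2}) {P : Pts M}
    (hP : P ≠ base M) :
    Nat.card (Sw M P) = Nat.card (Cz M z) ∧ Nat.card (twoStab M P) = Nat.card (Cz M z) ∧
      twoStab M P ⊓ M = ⊥ := by
  have hd := hy.deficit_lt hbig hP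
  have hsr := hy.card_sw_le_range hP
  have hrc := hy.card_range_le P
  have hcard := hy.card_twoStab P
  have hs := hy.card_sw_le hP
  have hXc := hy.card_inf_le hP
  set c := Nat.card (Cz M z) with hc
  set s := Nat.card (Sw M P)
  set R := Nat.card (hy.proj P).range with hR
  set X := Nat.card (twoStab M P ⊓ M : Subgroup G) with hX
  rw [hcard] at hd
  have hX1 : twoStab M P ⊓ M = ⊥ := by
    by_contra hne
    rcases Nat.eq_zero_or_pos s with h0 | h0
    · rw [h0, Nat.sub_zero] at hd
      exact absurd hd (not_lt.2 (Nat.mul_le_mul hXc hrc))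
    · obtain ⟨i, hi, hib⟩ := (Nat.card_pos_iff.1 h0).1
      have hXR := hy.card_inf_le_range hP hi hib
      have hz := hy.z_not_mem_range hP hi hib hne
      obtain ⟨t, ht⟩ : R ∣ c := (hy.proj P).range.card_subgroup_dvd_card
      have hRpos : 0 < R := Nat.card_pos
      have hcpos : 0 < c := Nat.card_pos
      have ht2 : 2 ≤ t := by
        by_contra hlt
        interval_cases t
        · omega
        · refine hz ?_
          rw [eq_top_of_card_eq _ (show Nat.card (hy.proj P).range = Nat.card (Cz M z) by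
            rw [← hc, ht, mul_one])]
          exact mem_top _
      have h1 : R * 2 ≤ c := ht ▸ Nat.mul_le_mul_left R ht2
      have h2 : R ≤ c - s := by omega
      exact absurd hd (not_lt.2 (Nat.mul_le_mul (le_trans hXR (by omega)) h2))
  have hX' : X = 1 := by rw [hX, hX1, card_bot]
  rw [hX', one_mul] at hd hcard
  have hsc : s = c := by
    by_contra hne
    have : c * 1 ≤ c * (c - s) := Nat.mul_le_mul_left c (by omega)
    omega
  exact ⟨hsc, by omega, hX1⟩

end Hyp

end Cfsg.Agent.TIInv
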