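import Cfsg.Agent.Lib.TIInvolution.Zass
import Cfsg.Agent.Lib.ScNoncyclic.Converse
import Cfsg.Agent.Lib.Frobenius.FixedPointFree
import Cfsg.Agent.Lib.PGroup.CyclicMaximal
import Cfsg.Agent.S1230

/-!
# More than two fixed points: `C = ⟨z⟩`, so `PSL(2, 2^e)` or `2^(2d) : D_(2(2^d + 1))`
-/

set_option autoImplicit false
set_option linter.style.haveILetI false
set_option linter.unusedSectionVars false

namespace Cfsg.Agent.TIInv

open Subgroup MulAction

variable {G : Type*} [Group G] [Finite G] {M : Subgroup G} {z : G}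

namespace Big

variable (hB : Big M z)
include hB

theorem swap_centralizes {P : Pts M} (hP : P ≠ base M) (hzP : z • P = P) {i : G}
    (hi : orderOf i = 2) (hiP : i • base M = P) : i * z = z * i := by
  have h1 := hB.conj_eq_inv hP hiP (swap_back hi hiP) (h := z) ⟨hB.zN, hzP⟩
  rw [inv_eq_self hB.hz] at h1
  exact mul_inv_eq_iff_eq_mul.1 h1

variable (hr : 2 ≤ Nat.card (Fix M z))
include hr

theorem card_Cz_two : Nat.card (Cz M z) = 2 := by
  classical
  haveI := Fintype.ofFinite (Fix M z)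
  rw [Nat.card_eq_fintype_card (α := Fix M z)] at hr
  obtain ⟨⟨P, hP, hzP⟩, ⟨Q, hQ, hzQ⟩, hne⟩ := Fintype.exists_pair_of_one_lt_card hr
  obtain ⟨i, hi, hiP⟩ := hB.exists_swap hP
  obtain ⟨j, hj, hjQ⟩ := hB.exists_swap hQ
  set R := i • Q with hR
  have hRb : R ≠ base M := fun e => hne (Subtype.ext (by
    show P = Q
    rw [← hiP, ← e, hR, ← mul_smul, sq_eq_one hi, one_smul]))
  have hzR : z • R = R := by
    rw [hR, ← mul_smul, ← hB.swap_centralizes hP hzP hi hiP, mul_smul, hzQ]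
  obtain ⟨k, hk, hkR⟩ := hB.exists_swap hRb
  set d := k⁻¹ * (i * j) with hd
  have hdC : d ∈ Cz M z := by
    refine mem_Cz.2 ⟨smul_base_eq_iff.1 ?_, ?_⟩
    · rw [hd, mul_smul, mul_smul, hjQ, ← hR, inv_smul_eq_iff, hkR]
    · have e1 := hB.swap_centralizes hP hzP hi hiP
      have e2 := hB.swap_centralizes hQ hzQ hj hjQ
      have e3 := hB.swap_centralizes hRb hzR hk hkR
      calc d * z = k⁻¹ * (i * (j * z)) := by rw [hd]; group
        _ = k⁻¹ * ((i * z) * j) := by rw [e2]; group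
        _ = k⁻¹ * z * (i * j) := by rw [e1]; group
        _ = z * d := by
          have : k⁻¹ * z = z * k⁻¹ := by
            rw [inv_mul_eq_iff_eq_mul, ← mul_assoc, e3, mul_inv_cancel_right]
          rw [this, hd]; group
  have hsq : ∀ h ∈ Cz M z, h * h = 1 := by
    intro h hh
    have e1 := hB.conj_eq_inv hP hiP (swap_back hi hiP) (h := h) (hB.twoStab_fix hP hzP ▸ hh)
    have e2 := hB.conj_eq_inv hQ hjQ (swap_back hj hjQ) (h := h) (hB.twoStab_fix hQ hzQ ▸ hh)
    have e3 := hB.conj_eq_inv hRb hkR (swap_back hk hkR) (h := h) (hB.twoStab_fix hRb hzR ▸ hh)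
    have e4 : d * h * d⁻¹ = h := by
      have := hB.comm_twoStab hP (hB.twoStab_fix hP hzP ▸ hdC) (hB.twoStab_fix hP hzP ▸ hh)
      rw [this, mul_inv_cancel_right]
    have e5 : i * j * h * (i * j)⁻¹ = h := by
      calc i * j * h * (i * j)⁻¹ = i * (j * h * j⁻¹) * i⁻¹ := by group
        _ = (i * h * i⁻¹)⁻¹ := by rw [e2]; group
        _ = h := by rw [e1, inv_inv]
    have e6 : k * h * k⁻¹ = h := by
      calc k * h * k⁻¹ = k * (d * h * d⁻¹) * k⁻¹ := by rw [e4]
        _ = i * j * h * (i * j)⁻¹ := by rw [hd]; group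
        _ = h := e5
    rw [e3] at e6
    exact mul_eq_one_iff_eq_inv.2 e6.symm
  refine le_antisymm ?_ ?_
  · refine le_of_le_of_eq (Nat.card_le_card_of_injective
      (fun h : Cz M z => if (h : G) = 1 then (0 : Fin 2) else 1) ?_) (Nat.card_fin 2)
    have key : ∀ h : Cz M z, (h : G) ≠ 1 → (h : G) = z := fun h h1 =>
      hB.eq_z h.2 (orderOf_eq_prime (by rw [pow_two]; exact hsq h h.2) h1)
    intro a b e
    refine Subtype.ext ?_
    simp only at e
    split_ifs at e with h1 h2 h2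
    · rw [h1, h2]
    · simp at e
    · simp at e
    · rw [key a h1, key b h2]
  · exact Nat.le_of_dvd Nat.card_pos (even_iff_two_dvd.1 hB.even_Cz)

theorem eq_of_mem_Cz {h : G} (hh : h ∈ Cz M z) : h = 1 ∨ h = z := by
  by_contra hne
  rw [not_or] at hne
  haveI : Fact (Nat.Prime 2) := ⟨Nat.prime_two⟩
  refine hne.2 (hB.eq_z hh (orderOf_eq_prime ?_ hne.1))
  have h1 : (⟨h, hh⟩ : Cz M z) ^ Nat.card (Cz M z) = 1 := pow_card_eq_one'
  rw [hB.card_Cz_two hr] at h1
  exact congrArg Subtype.val h1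

theorem centralizer_sq {g : G} (hg : g ∈ centralizer ({z} : Set G)) : g * g = 1 := by
  have hgz : g * z = z * g := mem_centralizer_singleton_iff.1 hg
  by_cases hb : g • base M = base M
  · rcases hB.eq_of_mem_Cz hr (mem_Cz.2 ⟨smul_base_eq_iff.1 hb, hgz⟩) with h | h <;> rw [h]
    · exact one_mul 1
    · exact sq_eq_one hB.hz
  · obtain ⟨P, hP⟩ : ∃ P, g • base M = P := ⟨_, rfl⟩
    rw [hP] at hb
    have hzP : z • P = P := by rw [← hP, ← mul_smul, ← hgz, mul_smul, smul_base_eq_iff.2 hB.zN]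
    obtain ⟨i, hi, hiP⟩ := hB.exists_swap hb
    set d := i⁻¹ * g with hd
    have hdC : d ∈ Cz M z := by
      refine mem_Cz.2 ⟨smul_base_eq_iff.1 (by rw [hd, mul_smul, hP, inv_smul_eq_iff, hiP]), ?_⟩
      rw [hd, mul_assoc, hgz, ← mul_assoc, ← mul_assoc]
      congr 1
      rw [inv_eq_self hi, hB.swap_centralizes hb hzP hi hiP]
    have hg' : g = i * d := by rw [hd, mul_inv_cancel_left]
    refine sq_eq_one (hB.orderOf_swap hb hP ?_)
    rw [hg', mul_smul, (show d • P = P from (hB.twoStab_fix hb hzP ▸ hdC : d ∈ twoStab M P).2),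
      swap_back hi hiP]

theorem centralizer_comm {a b : G} (ha : a ∈ centralizer ({z} : Set G))
    (hb : b ∈ centralizer ({z} : Set G)) : a * b = b * a := by
  have h1 := hB.centralizer_sq hr (mul_mem ha hb)
  calc a * b = (a * b)⁻¹ := eq_inv_of_mul_eq_one_left h1
    _ = b * a := by
      rw [mul_inv_rev, inv_eq_of_mul_eq_one_right (hB.centralizer_sq hr ha),
        inv_eq_of_mul_eq_one_right (hB.centralizer_sq hr hb)]

theorem exists_pow : ∃ s : ℕ, 2 ≤ s ∧ Nat.card (Fix M z) + 1 = 2 ^ s := by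
  have hP : IsPGroup 2 (centralizer ({z} : Set G)) := fun g =>
    ⟨1, Subtype.ext (by rw [pow_one, SubgroupClass.coe_pow, pow_two]; exact hB.centralizer_sq hr g.2)⟩
  haveI : Fact (Nat.Prime 2) := ⟨Nat.prime_two⟩
  obtain ⟨k, hk⟩ := hP.exists_card_eq
  rw [hB.card_centralizer, hB.card_Cz_two hr] at hk
  have hk3 : 3 ≤ k := by
    by_contra h
    have := Nat.pow_le_pow_right two_pos (show k ≤ 2 by omega)
    omega
  refine ⟨k - 1, by omega, ?_⟩
  rw [show k = k - 1 + 1 by omega, pow_succ] at hk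
  exact Nat.eq_of_mul_eq_mul_right two_pos hk

/-- The two possible orders of `M`. -/
theorem card_M_cases {s : ℕ} (hs : Nat.card (Fix M z) + 1 = 2 ^ s) :
    Nat.card M = 2 ^ s + 1 ∨ Nat.card M = 2 * 2 ^ s + 1 := by
  have h1 := hB.card_fixing
  have h2 := hB.card_fixing_le
  rw [hB.card_involutions, hB.card_Cz_two hr] at h2
  rw [hB.card_pts] at h1
  set r := Nat.card (Fix M z)
  set m := Nat.card M with hm
  set T := Nat.card (Fixing M)
  have hmpos : 0 < m := Nat.card_pos
  have hle : m ≤ 2 * r + 3 := by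
    have h3 : (m * r + 1) * m ≤ ((1 + r * 2) * (r + 1)) * m := by nlinarith
    have h4 := Nat.le_of_mul_le_mul_right h3 hmpos
    by_contra h
    nlinarith
  have hcop : Nat.Coprime (2 ^ s) m :=
    Nat.Coprime.pow_left s (Nat.coprime_two_left.2 hB.card_odd)
  have hdvd : r + 1 ∣ m * r + 1 := by
    rw [hs]
    exact hcop.dvd_of_dvd_mul_right (hs ▸ Dvd.intro_left _ h1)
  have hdvd2 : r + 1 ∣ m - 1 := by
    refine (Nat.dvd_add_right hdvd).1 ?_
    rw [show m * r + 1 + (m - 1) = m * (r + 1) by rw [mul_add, mul_one]; omega]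
    exact dvd_mul_left _ _
  obtain ⟨k, hk⟩ := hdvd2
  have h3m := hB.three_le_card
  have hk2 : k ≤ 2 := by
    by_contra h
    have := Nat.mul_le_mul_left (r + 1) (show 3 ≤ k by omega)
    omega
  interval_cases k <;> omega

/-- `|M| = 2^(s+1) + 1`: `PSL(2, 2^(s+1))`. -/
theorem psl_even {s : ℕ} (hs2 : 2 ≤ s) (hs : Nat.card (Fix M z) + 1 = 2 ^ s)
    (hm : Nat.card M = 2 * 2 ^ s + 1) :
    ∃ (F : Type) (_ : Field F) (_ : Fintype F) (e : ℕ), 1 < e ∧ Fintype.card F = 2 ^ e ∧ IsCyclic M ∧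
      Nat.card M = 2 ^ e + 1 ∧ Nonempty (G ≃* Matrix.ProjectiveSpecialLinearGroup (Fin 2) F) := by
  classical
  haveI : Fact (Nat.Prime 2) := ⟨Nat.prime_two⟩
  haveI := Fintype.ofFinite G
  have h4s : 4 ≤ 2 ^ s := Nat.pow_le_pow_right two_pos hs2
  have hT := hB.card_fixing
  rw [hB.card_pts, hm, hs] at hT
  set Q := 2 ^ s with hQ
  set T := Nat.card (Fixing M)
  set r := Nat.card (Fix M z)
  have hr' : r = Q - 1 := by omega
  have hI : Nat.card {i : G // orderOf i = 2} = T := by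
    have e : ((2 * Q + 1) * (2 * r + 1)) * Q = T * Q := by
      rw [hT]
      obtain ⟨w, hw⟩ : ∃ w, Q = w + 1 := ⟨Q - 1, by omega⟩
      rw [hr', hw, Nat.add_sub_cancel]
      ring
    have := Nat.eq_of_mul_eq_mul_right (by omega : 0 < Q) e
    rw [hB.card_involutions, hB.card_Cz_two hr, hm]
    linarith
  have hallfix : ∀ t : G, orderOf t = 2 → ∃ g : G, g * z * g⁻¹ = t := by
    intro t ht
    have hsurj : Function.Surjective (fun v : Fixing M => (⟨v.1, v.2.1⟩ : {i : G // orderOf i = 2})) :=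
      ((Nat.bijective_iff_injective_and_card
        (fun v : Fixing M => (⟨v.1, v.2.1⟩ : {i : G // orderOf i = 2}))).2
        ⟨fun a b e => Subtype.ext (congrArg (fun w : {i : G // orderOf i = 2} => w.1) e),
          hI.symm⟩).2
    obtain ⟨⟨v, hv, P, hP⟩, e⟩ := hsurj ⟨t, ht⟩
    obtain ⟨g, hg, -⟩ := hB.exists_conj_z hv hP
    exact ⟨g, hg.trans (congrArg Subtype.val e)⟩
  have hC : ∀ t : G, orderOf t = 2 → IsMulCommutative (centralizer ({t} : Set G)) ∧
      ∀ c ∈ centralizer ({t} : Set G), c ^ 2 = 1 := by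
    intro t ht
    obtain ⟨g, rfl⟩ := hallfix t ht
    have hmem : ∀ c ∈ centralizer ({g * z * g⁻¹} : Set G), g⁻¹ * c * g ∈ centralizer ({z} : Set G) := by
      intro c hc
      rw [mem_centralizer_singleton_iff] at hc ⊢
      calc g⁻¹ * c * g * z = g⁻¹ * (c * (g * z * g⁻¹)) * g := by group
        _ = z * (g⁻¹ * c * g) := by rw [hc]; group
    refine ⟨⟨⟨fun a b => Subtype.ext ?_⟩⟩, fun c hc => ?_⟩
    · show (a : G) * b = b * a
      calc (a : G) * b = g * ((g⁻¹ * a * g) * (g⁻¹ * b * g)) * g⁻¹ := by group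
        _ = b * a := by rw [hB.centralizer_comm hr (hmem a a.2) (hmem b b.2)]; group
    · calc c ^ 2 = g * ((g⁻¹ * c * g) * (g⁻¹ * c * g)) * g⁻¹ := by rw [pow_two]; group
        _ = 1 := by rw [hB.centralizer_sq hr (hmem c hc)]; group
  -- the Sylow 2-subgroups
  have hZp : IsPGroup 2 (centralizer ({z} : Set G)) := fun g =>
    ⟨1, Subtype.ext (by rw [pow_one, SubgroupClass.coe_pow, pow_two]; exact hB.centralizer_sq hr g.2)⟩
  have hZcard : Nat.card (centralizer ({z} : Set G)) = 2 * Q := by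
    rw [hB.card_centralizer, hB.card_Cz_two hr, hs]; ring
  have hG : Nat.card G = (2 * Q + 1) * (2 * Q - 1) * (2 * Q) := by
    rw [hB.card_group, hB.card_pts, hB.card_Cz_two hr, hm]
    obtain ⟨w, hw⟩ : ∃ w, Q = w + 1 := ⟨Q - 1, by omega⟩
    rw [show Nat.card (Fix M z) = r from rfl, hr', hw, Nat.add_sub_cancel,
      show 2 * (w + 1) - 1 = 2 * w + 1 by omega]
    ring
  have hidx : ¬ 2 ∣ (centralizer ({z} : Set G)).index := by
    have h1 := (centralizer ({z} : Set G)).index_mul_card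
    rw [hZcard, hG] at h1
    rw [Nat.eq_of_mul_eq_mul_right (by omega) h1]
    exact fun hd => by rcases Nat.prime_two.dvd_mul.1 hd with h | h <;> omega
  set S : Sylow 2 G := hZp.toSylow hidx
  have hSeq : (S : Subgroup G) = centralizer ({z} : Set G) := rfl
  have hnc : ¬ IsCyclic (S : Subgroup G) := by
    rw [hSeq]
    intro hcyc
    haveI := Fintype.ofFinite (centralizer ({z} : Set G))
    have h1 := IsCyclic.card_pow_eq_one_le (α := centralizer ({z} : Set G)) (n := 2) two_pos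
    rw [Finset.filter_true_of_mem fun g _ => Subtype.ext (by
      rw [SubgroupClass.coe_pow, pow_two]; exact hB.centralizer_sq hr g.2), Finset.card_univ,
      ← Nat.card_eq_fintype_card, hZcard] at h1
    omega
  have hnn : ¬ (S : Subgroup G).Normal := by
    rw [hSeq]
    intro hn
    have hall : ∀ t : G, orderOf t = 2 → t ∈ centralizer ({z} : Set G) := fun t ht => by
      obtain ⟨g, rfl⟩ := hallfix t ht
      exact hn.conj_mem _ (mem_centralizer_singleton_iff.2 rfl) g
    have h1 : Nat.card {i : G // orderOf i = 2} ≤ Nat.card (centralizer ({z} : Set G)) :=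
      Nat.card_le_card_of_injective (fun i => ⟨i.1, hall i.1 i.2⟩) fun a b e =>
        Subtype.ext (congrArg (fun w : (centralizer ({z} : Set G)) => (w : G)) e)
    rw [hB.card_involutions, hB.card_Cz_two hr, hm, hZcard] at h1
    have : (2 * Q + 1) * (r * 2) ≥ (2 * Q + 1) * 6 := Nat.mul_le_mul_left _ (by omega)
    nlinarith
  obtain ⟨F, hF, hFF, hcard, ⟨e⟩⟩ := S1230.result S hnc hnn hC
  rw [hSeq, hZcard] at hcard
  have hq : Fintype.card F = 2 ^ (s + 1) := by rw [hcard, hQ, pow_succ]; ring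
  refine ⟨F, hF, hFF, s + 1, by omega, hq, ?_, by rw [hm, hQ, pow_succ]; ring, ⟨e⟩⟩
  -- `M` is cyclic
  obtain ⟨x, hx, hx1⟩ := M.bot_or_exists_ne_one.resolve_left hB.ne_bot
  obtain ⟨g, hg⟩ := PSL2.mk_surjective (e x)
  have h2F : (2 : F) = 0 := by
    by_contra h2
    obtain ⟨k, hk⟩ := PSL2.odd_card_iff.2 h2
    rw [hq, pow_succ] at hk
    omega
  have hgc : g ∉ center (Matrix.SpecialLinearGroup (Fin 2) F) := by
    rw [← PSL2.mk_ne_one_iff, hg]
    exact fun h => hx1 (e.injective (h.trans (map_one e).symm))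
  have hCx : centralizer ({PSL2.mk g} : Set _) = (PSL2.cent g).map PSL2.mk :=
    PSL2.psl_centralizer_eq (Or.inr h2F)
  have hxC : PSL2.mk g ∈ (PSL2.cent g).map PSL2.mk :=
    mem_map_of_mem _ (PSL2.mem_cent.2 (Commute.refl g))
  have h4 : PSL2.tr g ^ 2 ≠ 4 := by
    intro h4
    have h5 := (PSL2.card_map_cent g).trans (ScNoncyclic.card_cent_of_tr_sq_eq_four hgc h4)
    have h6 : Nat.card ((PSL2.cent g).map PSL2.mk) = Fintype.card F :=
      Nat.eq_of_mul_eq_mul_left (Nat.gcd_pos_of_pos_left _ two_pos) h5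
    have h7 := ((PSL2.cent g).map PSL2.mk).orderOf_dvd_natCard hxC
    rw [h6, hq, hg, MulEquiv.orderOf_eq] at h7
    have h8 : orderOf x ∣ Nat.card M := M.orderOf_dvd_natCard hx
    exact hx1 (orderOf_eq_one_iff.1 (Nat.eq_one_of_dvd_coprimes
      (Nat.Coprime.pow_left _ (Nat.coprime_two_left.2 hB.card_odd)) h7 h8))
  haveI := PSL2.isCyclic_map_cent h4
  let f : M → (PSL2.cent g).map PSL2.mk := fun y => ⟨e y, hCx ▸ mem_centralizer_singleton_iff.2
    (by rw [hg, ← map_mul, ← map_mul, hB.comm y.2 hx])⟩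
  exact isCyclic_of_injective
    ({ toFun := f
       map_one' := Subtype.ext (by simp [f])
       map_mul' := fun a b => Subtype.ext (by simp [f]) } : M →* (PSL2.cent g).map PSL2.mk)
    fun a b h => Subtype.ext (e.injective (congrArg Subtype.val h))

end Big

end Cfsg.Agent.TIInv
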