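import Cfsg.Agent.Lib.TIInvolution.Count

/-!
# The configuration with more than `|G : M|` involutions

`n = r m + 1` points, every pair exchanged only by involutions, and `C(z)` transitive on the
`r + 1` fixed points of `z`.
-/

set_option autoImplicit false
set_option linter.style.haveILetI false
set_option linter.unusedSectionVars false

namespace Cfsg.Agent.TIInv

open Subgroup MulAction

/-- The hypothesis together with many involutions. -/
structure Big {G : Type*} [Group G] (M : Subgroup G) (z : G) : Prop extends Hyp M z where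
  big : M.index < Nat.card {i : G // orderOf i = 2}

variable {G : Type*} [Group G] [Finite G] {M : Subgroup G} {z : G}

/-- The other fixed points of `z`. -/
abbrev Fix (M : Subgroup G) (z : G) : Type _ := {P : Pts M // P ≠ base M ∧ z • P = P}

/-- The involutions with a fixed point. -/
abbrev Fixing (M : Subgroup G) : Type _ := {v : G // orderOf v = 2 ∧ ∃ P : Pts M, v • P = P}

omit [Finite G] in
theorem orderOf_conj_two {v : G} (hv : orderOf v = 2) (g : G) : orderOf (g * v * g⁻¹) = 2 := by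
  rw [← MulAut.conj_apply, MulEquiv.orderOf_eq, hv]

omit [Finite G] in
theorem conj_smul_eq_iff {g v : G} {P : Pts M} :
    (g * v * g⁻¹) • (g • P) = g • P ↔ v • P = P := by
  rw [mul_smul, mul_smul, inv_smul_smul, smul_left_cancel_iff]

namespace Big

variable (hB : Big M z)
include hB

theorem exists_swap {P : Pts M} (hP : P ≠ base M) : ∃ i : G, orderOf i = 2 ∧ i • base M = P := by
  have h := (hB.regular hB.big hP).1
  have h0 : 0 < Nat.card (Sw M P) := by rw [h]; exact Nat.card_pos
  obtain ⟨i, hi⟩ := (Nat.card_pos_iff.1 h0).1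
  exact ⟨i, hi⟩

/-- Any element exchanging `M` and `P` is an involution. -/
theorem orderOf_swap {P : Pts M} (hP : P ≠ base M) {g : G} (hg : g • base M = P)
    (hg' : g • P = base M) : orderOf g = 2 := by
  obtain ⟨i, hi, hiP⟩ := hB.exists_swap hP
  let f : Sw M P → twoStab M P := fun j =>
    ⟨i⁻¹ * j.1, inv_mul_mem_twoStab hi hiP j.2.2 (swap_back j.2.1 j.2.2)⟩
  have hf : Function.Bijective f := by
    refine (Nat.bijective_iff_injective_and_card f).2 ⟨fun j k e => ?_, ?_⟩
    · exact Subtype.ext (mul_left_cancel (congrArg Subtype.val e))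
    · rw [(hB.regular hB.big hP).1, (hB.regular hB.big hP).2.1]
  obtain ⟨j, hj⟩ := hf.2 ⟨i⁻¹ * g, inv_mul_mem_twoStab hi hiP hg hg'⟩
  have : j.1 = g := mul_left_cancel (congrArg Subtype.val hj)
  exact this ▸ j.2.1

theorem conj_eq_inv {P : Pts M} (hP : P ≠ base M) {g h : G} (hg : g • base M = P)
    (hg' : g • P = base M) (hh : h ∈ twoStab M P) : g * h * g⁻¹ = h⁻¹ := by
  have h1 := hB.orderOf_swap hP hg hg'
  have h2 := hB.orderOf_swap hP (g := g * h)
    (by rw [mul_smul, smul_base_eq_iff.2 hh.1, hg]) (by rw [mul_smul, hh.2, hg'])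
  rw [inv_eq_self h1, eq_inv_iff_mul_eq_one, mul_assoc (g * h)]
  exact sq_eq_one h2

theorem comm_twoStab {P : Pts M} (hP : P ≠ base M) {a b : G} (ha : a ∈ twoStab M P)
    (hb : b ∈ twoStab M P) : a * b = b * a := by
  obtain ⟨i, hi, hiP⟩ := hB.exists_swap hP
  have e := fun x (hx : x ∈ twoStab M P) => hB.conj_eq_inv hP hiP (swap_back hi hiP) hx
  have h := e _ (mul_mem ha hb)
  rw [show i * (a * b) * i⁻¹ = (i * a * i⁻¹) * (i * b * i⁻¹) by group, e a ha, e b hb,
    ← mul_inv_rev] at h
  exact (inv_injective h).symm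

theorem proj_bijective {P : Pts M} (hP : P ≠ base M) : Function.Bijective (hB.toHyp.proj P) := by
  refine (Nat.bijective_iff_injective_and_card _).2 ⟨?_, (hB.regular hB.big hP).2.1⟩
  refine (MonoidHom.ker_eq_bot_iff _).1 (eq_bot_iff.2 fun g hg => ?_)
  have h1 : (g : G) ∈ twoStab M P ⊓ M := mem_inf.2 ⟨g.2, hB.mem_ker_proj.1 hg⟩
  rw [(hB.regular hB.big hP).2.2, mem_bot] at h1
  exact mem_bot.2 (Subtype.ext h1)

theorem exists_involution {P : Pts M} (hP : P ≠ base M) :
    ∃ x ∈ M, z * x ∈ twoStab M P := by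
  obtain ⟨g, hg⟩ := (hB.proj_bijective hP).2 ⟨z, hB.z_mem_Cz⟩
  obtain ⟨x, hx, hgx⟩ := hB.part_spec (Subgroup.inclusion inf_le_left g)
  have h1 : (hB.toHyp.part (Subgroup.inclusion inf_le_left g) : G) = z := congrArg Subtype.val hg
  rw [h1] at hgx
  exact ⟨x, hx, (show (g : G) = z * x from hgx) ▸ g.2⟩

theorem involution_unique {P : Pts M} (hP : P ≠ base M) {v w : G} (hv : orderOf v = 2)
    (hw : orderOf w = 2) (hvP : v ∈ twoStab M P) (hwP : w ∈ twoStab M P) : v = w :=
  hB.eq_of_commute hv hw hvP.1 hwP.1 (hB.comm_twoStab hP hvP hwP)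

theorem twoStab_fix {P : Pts M} (hP : P ≠ base M) (hz : z • P = P) : twoStab M P = Cz M z := by
  have hzm : z ∈ twoStab M P := ⟨hB.zN, hz⟩
  refine eq_of_le_of_card_ge (fun g hg => mem_Cz.2 ⟨hg.1, hB.comm_twoStab hP hg hzm⟩) ?_
  rw [(hB.regular hB.big hP).2.1]

theorem exists_sqrt {x : G} (hx : x ∈ M) : ∃ y ∈ M, y * z * y⁻¹ = z * x := by
  have hinj : Function.Injective (fun y : M => y * y) := fun a b e => by
    have h1 : ((a : G)⁻¹ * b) * ((a : G)⁻¹ * b) = 1 := by
      have e' : (a : G) * a = b * b := congrArg Subtype.val e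
      calc (a : G)⁻¹ * b * ((a : G)⁻¹ * b) = (a : G)⁻¹ * ((b : G) * (a : G)⁻¹) * b := by group
        _ = (a : G)⁻¹ * ((a : G)⁻¹ * b) * b := by rw [hB.comm b.2 (inv_mem a.2)]
        _ = ((a : G) * a)⁻¹ * (b * b) := by group
        _ = 1 := by rw [e', inv_mul_cancel]
    exact Subtype.ext (inv_mul_eq_one.1 (eq_one_of_sq hB.card_odd (mul_mem (inv_mem a.2) b.2) h1))
  obtain ⟨y, hy⟩ := (Finite.injective_iff_surjective.1 hinj) ⟨x⁻¹, inv_mem hx⟩
  refine ⟨y, y.2, ?_⟩
  have hy' : (y : G) * y = x⁻¹ := congrArg Subtype.val hy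
  calc (y : G) * z * (y : G)⁻¹ = z * (z⁻¹ * y * z) * (y : G)⁻¹ := by group
    _ = z * ((y : G) * y)⁻¹ := by
      have h2 : z⁻¹ * y * z = (y : G)⁻¹ := by
        have h3 := hB.inv_z y.2
        rw [inv_eq_self hB.hz] at h3 ⊢
        exact h3
      rw [h2, mul_assoc, ← mul_inv_rev]
    _ = z * x := by rw [hy', inv_inv]

/-- `M` moves `Fix z` onto all other points regularly. -/
theorem smul_fix_bijective : Function.Bijective (fun d : M × Fix M z =>
    (⟨(d.1 : G) • d.2.1, fun e => d.2.2.1 (by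
      rw [← inv_smul_smul (d.1 : G) d.2.1, e, smul_base_eq_iff.2 (inv_mem (hB.mem_normalizer d.1.2))])⟩ :
      {P : Pts M // P ≠ base M})) := by
  constructor
  · rintro ⟨y, P, hP, hzP⟩ ⟨y', P', hP', hzP'⟩ e
    have e' : (y : G) • P = (y' : G) • P' := congrArg Subtype.val e
    set w := (y' : G)⁻¹ * y with hw
    have hwM : w ∈ M := mul_mem (inv_mem y'.2) y.2
    have hwP : w • P = P' := by rw [hw, mul_smul, inv_smul_eq_iff, e']
    have h1 : w * z * w⁻¹ = z := by
      refine hB.involution_unique hP' (orderOf_conj_two hB.hz w) hB.hz (mem_twoStab.2 ⟨?_, ?_⟩)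
        (mem_twoStab.2 ⟨hB.zN, hzP'⟩)
      · exact mul_mem (mul_mem (hB.mem_normalizer hwM) hB.zN) (inv_mem (hB.mem_normalizer hwM))
      · rw [← hwP]
        exact conj_smul_eq_iff.2 hzP
    have hw1 : w = 1 := by
      by_contra h
      exact hB.not_commute hB.hz hwM h (mul_inv_eq_iff_eq_mul.1 h1).symm
    have hy : y = y' := Subtype.ext (inv_mul_eq_one.1 hw1).symm
    rw [hw1, one_smul] at hwP
    subst hy hwP
    rfl
  · rintro ⟨P, hP⟩
    obtain ⟨x, hx, hxP⟩ := hB.exists_involution hP
    obtain ⟨y, hy, e⟩ := hB.exists_sqrt hx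
    refine ⟨(⟨y, hy⟩, ⟨y⁻¹ • P, fun h => hP ?_, ?_⟩), Subtype.ext (smul_inv_smul y P)⟩
    · rw [← smul_inv_smul y P, h, smul_base_eq_iff.2 (hB.mem_normalizer hy)]
    · rw [← conj_smul_eq_iff (g := y), e, smul_inv_smul]
      exact hxP.2

theorem card_pts : Nat.card (Pts M) = Nat.card M * Nat.card (Fix M z) + 1 := by
  classical
  haveI := Fintype.ofFinite (Pts M)
  rw [← Nat.card_prod, Nat.card_eq_of_bijective _ hB.smul_fix_bijective,
    Nat.card_congr (Equiv.optionSubtypeNe (base M)).symm, Finite.card_option]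

theorem card_involutions : Nat.card {i : G // orderOf i = 2} =
    Nat.card M + Nat.card M * Nat.card (Fix M z) * Nat.card (Cz M z) := by
  classical
  haveI := Fintype.ofFinite (Pts M)
  rw [hB.card_involutions_eq, Finset.sum_congr rfl (fun P hP =>
    (hB.regular hB.big (Finset.mem_erase.1 hP).1).1), Finset.sum_const, smul_eq_mul,
    Finset.card_erase_of_mem (Finset.mem_univ _), Finset.card_univ, ← Nat.card_eq_fintype_card,
    hB.card_pts, Nat.add_sub_cancel]

theorem card_group : Nat.card G = Nat.card (Pts M) * (Nat.card M * Nat.card (Cz M z)) := by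
  rw [card_eq_card_quotient_mul_card_subgroup (normalizer (M : Set G)), hB.card_normalizer]

theorem index_eq : M.index = Nat.card (Pts M) * Nat.card (Cz M z) := by
  have h1 := M.card_mul_index
  rw [hB.card_group, ← mul_assoc, mul_comm _ (Nat.card M), mul_assoc] at h1
  exact Nat.eq_of_mul_eq_mul_left Nat.card_pos h1

theorem card_Cz_lt : Nat.card (Cz M z) < Nat.card M := by
  have h := hB.big
  rw [hB.index_eq, hB.card_involutions, hB.card_pts, add_mul, one_mul] at h
  omega

/-- Every involution fixing a point is conjugate to `z`. -/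
theorem exists_conj_z {v : G} (hv : orderOf v = 2) {P : Pts M} (hvP : v • P = P) :
    ∃ g : G, g * z * g⁻¹ = v ∧ g • base M = P := by
  induction P using QuotientGroup.induction_on with
  | _ a =>
    obtain ⟨x, hx, hwx⟩ := hB.involution_cases
      (by simpa using orderOf_conj_two hv a⁻¹ : orderOf (a⁻¹ * v * a) = 2) (smul_mk_eq_iff.1 hvP)
    obtain ⟨y, hy, e⟩ := hB.exists_sqrt hx
    refine ⟨a * y, ?_, ?_⟩
    · rw [show a * y * z * (a * y)⁻¹ = a * (y * z * y⁻¹) * a⁻¹ by group, e, ← hwx]
      group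
    · rw [mul_smul, smul_base_eq_iff.2 (hB.mem_normalizer hy), base, MulAction.Quotient.smul_coe,
        smul_eq_mul, mul_one]

/-- Two distinct points are fixed by a unique involution. -/
theorem existsUnique_fixing {P Q : Pts M} (hPQ : P ≠ Q) :
    ∃! v : G, orderOf v = 2 ∧ v • P = P ∧ v • Q = Q := by
  induction P using QuotientGroup.induction_on with
  | _ a =>
    have ha : (a : Pts M) = a • base M := by
      rw [base, MulAction.Quotient.smul_coe, smul_eq_mul, mul_one]
    rw [ha] at hPQ ⊢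
    set R := a⁻¹ • Q with hR
    have hQ : Q = a • R := by rw [hR, smul_inv_smul]
    have hRb : R ≠ base M := fun e => hPQ (by rw [hQ, e])
    obtain ⟨x, hx, hxR⟩ := hB.exists_involution hRb
    refine ⟨a * (z * x) * a⁻¹, ⟨orderOf_conj_two (hB.orderOf_z_mul hx) a, ?_, ?_⟩, ?_⟩
    · exact conj_smul_eq_iff.2 (smul_base_eq_iff.2 hxR.1)
    · rw [hQ]; exact conj_smul_eq_iff.2 hxR.2
    · rintro v ⟨hv, hvP, hvQ⟩
      have hv' : a⁻¹ * v * a ∈ twoStab M R := by
        refine ⟨smul_base_eq_iff.1 ?_, mem_stabilizer_iff.2 ?_⟩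
        · rw [mul_smul, mul_smul, hvP, inv_smul_smul]
        · rw [mul_smul, mul_smul, ← hQ, hvQ]
      rw [← hB.involution_unique hRb (by simpa using orderOf_conj_two hv a⁻¹)
        (hB.orderOf_z_mul hx) hv' hxR]
      group

theorem card_fixedPts_z : Nat.card {P : Pts M // z • P = P} = Nat.card (Fix M z) + 1 := by
  classical
  rw [← Finite.card_option (α := Fix M z)]
  exact Nat.card_congr
    ((Equiv.optionSubtypeNe (⟨base M, smul_base_eq_iff.2 hB.zN⟩ : {P : Pts M // z • P = P})).symm.trans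
      (Equiv.optionCongr
        { toFun := fun d => ⟨d.1.1, fun e => d.2 (Subtype.ext e), d.1.2⟩
          invFun := fun d => ⟨⟨d.1, d.2.2⟩, fun e => d.2.1 (congrArg Subtype.val e)⟩
          left_inv := fun _ => rfl
          right_inv := fun _ => rfl }))

theorem card_fixing : Nat.card (Fixing M) * (Nat.card (Fix M z) + 1) =
    Nat.card (Pts M) * Nat.card M := by
  classical
  haveI := Fintype.ofFinite (Pts M)
  haveI := Fintype.ofFinite (Fixing M)
  have h1 : ∀ v : Fixing M, Nat.card {P : Pts M // v.1 • P = P} = Nat.card (Fix M z) + 1 := by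
    rintro ⟨v, hv, P, hP⟩
    obtain ⟨g, rfl, -⟩ := hB.exists_conj_z hv hP
    rw [← hB.card_fixedPts_z]
    exact (Nat.card_congr ((MulAction.toPerm g).subtypeEquiv fun Q => conj_smul_eq_iff.symm)).symm
  have h2 : ∀ P : Pts M, Nat.card {v : Fixing M // v.1 • P = P} = Nat.card M := by
    intro P
    induction P using QuotientGroup.induction_on with
    | _ a =>
      have ha : (a : Pts M) = a • base M := by
        rw [base, MulAction.Quotient.smul_coe, smul_eq_mul, mul_one]
      rw [ha, ← hB.toHyp.card_involutions]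
      have hinv : ∀ v : {v : Fixing M // v.1 • a • base M = a • base M},
          orderOf (a⁻¹ * v.1.1 * a) = 2 ∧ a⁻¹ * v.1.1 * a ∈ normalizer (M : Set G) := fun v =>
        ⟨by simpa using orderOf_conj_two v.1.2.1 a⁻¹,
          smul_base_eq_iff.1 (by rw [mul_smul, mul_smul, v.2, inv_smul_smul])⟩
      refine (Nat.card_congr
        { toFun := fun w => ⟨⟨a * w.1 * a⁻¹, orderOf_conj_two w.2.1 a, a • base M,
            conj_smul_eq_iff.2 (smul_base_eq_iff.2 w.2.2)⟩,
            conj_smul_eq_iff.2 (smul_base_eq_iff.2 w.2.2)⟩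
          invFun := fun v => ⟨a⁻¹ * v.1.1 * a, hinv v⟩
          left_inv := fun w => Subtype.ext (by show a⁻¹ * (a * w.1 * a⁻¹) * a = w.1; group)
          right_inv := fun v => Subtype.ext (Subtype.ext
            (by show a * (a⁻¹ * v.1.1 * a) * a⁻¹ = v.1.1; group)) }).symm
  have e : Nat.card (Σ v : Fixing M, {P : Pts M // v.1 • P = P}) =
      Nat.card (Σ P : Pts M, {v : Fixing M // v.1 • P = P}) :=
    Nat.card_congr
      { toFun := fun d => ⟨d.2.1, d.1, d.2.2⟩
        invFun := fun d => ⟨d.2.1, d.1, d.2.2⟩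
        left_inv := fun _ => rfl
        right_inv := fun _ => rfl }
  rw [Nat.card_sigma, Nat.card_sigma, Finset.sum_congr rfl (fun v _ => h1 v),
    Finset.sum_congr rfl (fun P _ => h2 P), Finset.sum_const, Finset.sum_const, Finset.card_univ,
    Finset.card_univ, smul_eq_mul, smul_eq_mul, ← Nat.card_eq_fintype_card,
    ← Nat.card_eq_fintype_card] at e
  exact e

theorem card_fixing_le : Nat.card (Fixing M) ≤ Nat.card {i : G // orderOf i = 2} :=
  Nat.card_le_card_of_injective (fun v => (⟨v.1, v.2.1⟩ : {i : G // orderOf i = 2}))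
    fun _ _ e => Subtype.ext (congrArg (fun w : {i : G // orderOf i = 2} => w.1) e)

/-- `C(z)` is transitive on the fixed points of `z`. -/
theorem card_centralizer : Nat.card (centralizer ({z} : Set G)) =
    (Nat.card (Fix M z) + 1) * Nat.card (Cz M z) := by
  set Z := centralizer ({z} : Set G)
  have horb : orbit Z (base M) = {P : Pts M | z • P = P} := by
    ext P
    constructor
    · rintro ⟨g, rfl⟩
      show z • ((g : G) • base M) = (g : G) • base M
      rw [← mul_smul, ← mem_centralizer_singleton_iff.1 g.2, mul_smul, smul_base_eq_iff.2 hB.zN]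
    · intro hP
      by_cases hb : P = base M
      · exact hb ▸ mem_orbit_self _
      obtain ⟨i, hi, hiP⟩ := hB.exists_swap hb
      have h1 := hB.conj_eq_inv hb hiP (swap_back hi hiP) (h := z) ⟨hB.zN, hP⟩
      rw [inv_eq_self hB.hz] at h1
      exact ⟨⟨i, mem_centralizer_singleton_iff.2 (mul_inv_eq_iff_eq_mul.1 h1)⟩, hiP⟩
  rw [← hB.card_fixedPts_z, ← (stabilizer Z (base M)).index_mul_card, index_stabilizer, horb,
    ← Nat.card_coe_set_eq]
  congr 1
  exact Nat.card_congr
    { toFun := fun g => ⟨g.1.1, mem_Cz.2 ⟨smul_base_eq_iff.1 g.2, mem_centralizer_singleton_iff.1 g.1.2⟩⟩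
      invFun := fun g => ⟨⟨g.1, g.2.2⟩, smul_base_eq_iff.2 g.2.1⟩
      left_inv := fun _ => rfl
      right_inv := fun _ => rfl }

end Big

end Cfsg.Agent.TIInv
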