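import Cfsg.Agent.Lib.TIInvolution.Rigid
import Cfsg.Agent.Lib.PSL2.Recognition
import Cfsg.Agent.Lib.PSL2.Centralizer
import Cfsg.Agent.Lib.Perm.SharplyPGL

/-!
# Two fixed points: a Zassenhaus group of degree `|M| + 1`, hence `PSL_2` or `PGL_2`
-/

set_option autoImplicit false
set_option linter.style.haveILetI false
set_option linter.unusedSectionVars false

namespace Cfsg.Agent.TIInv

open Subgroup MulAction

variable {G : Type*} [Group G] [Finite G] {M : Subgroup G} {z : G}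

omit [Finite G] in
theorem mk_eq_smul_base (a : G) : (a : Pts M) = a • base M := by
  rw [base, MulAction.Quotient.smul_coe, smul_eq_mul, mul_one]

omit [Finite G] in
theorem exists_smul_base (P : Pts M) : ∃ a : G, a • base M = P := by
  induction P using QuotientGroup.induction_on with
  | _ a => exact ⟨a, (mk_eq_smul_base a).symm⟩

namespace Big

variable (hB : Big M z)
include hB

theorem three_le_card : 3 ≤ Nat.card M := by
  obtain ⟨k, hk⟩ := hB.card_odd
  have h1 : Nat.card M ≠ 1 := fun e => hB.ne_bot (Subgroup.card_eq_one.1 e)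
  omega

theorem even_Cz : Even (Nat.card (Cz M z)) := by
  rw [even_iff_two_dvd, ← hB.hz]
  exact (Cz M z).orderOf_dvd_natCard hB.z_mem_Cz

section Two

variable (hr : Nat.card (Fix M z) = 1)
include hr

theorem card_fixing_two {Q R : Pts M} (hQR : Q ≠ R) {v : G} (hv : orderOf v = 2) (hQ : v • Q = Q)
    (hR : v • R = R) {S : Pts M} (hS : v • S = S) : S = Q ∨ S = R := by
  classical
  obtain ⟨g, hg, -⟩ := hB.exists_conj_z hv hQ
  haveI := Fintype.ofFinite (Pts M)
  have hcard : Nat.card {P : Pts M // v • P = P} = 2 := by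
    rw [← hg, ← Nat.card_congr ((MulAction.toPerm g).subtypeEquiv fun P => conj_smul_eq_iff.symm),
      hB.card_fixedPts_z, hr]
  by_contra hne
  rw [not_or] at hne
  rw [Nat.card_eq_fintype_card, Fintype.card_subtype] at hcard
  have hsub : ({S, Q, R} : Finset (Pts M)) ⊆ Finset.univ.filter fun P => v • P = P := by
    intro P hP
    simp only [Finset.mem_insert, Finset.mem_singleton] at hP
    rcases hP with rfl | rfl | rfl <;> exact Finset.mem_filter.2 ⟨Finset.mem_univ _, by assumption⟩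
  have h3 := Finset.card_le_card hsub
  rw [Finset.card_eq_three.2 ⟨S, Q, R, hne.1, hne.2, hQR, rfl⟩, hcard] at h3
  omega

theorem eq_one_of_fixes_base {d : G} (hd : d ∈ normalizer (M : Set G)) {P Q : Pts M}
    (hP : P ≠ base M) (hQ : Q ≠ base M) (hPQ : P ≠ Q) (hdP : d • P = P) (hdQ : d • Q = Q) :
    d = 1 := by
  obtain ⟨x, hx, hu⟩ := hB.exists_involution hP
  set u := z * x
  have hu2 : orderOf u = 2 := hB.orderOf_z_mul hx
  have hdm : d ∈ twoStab M P := ⟨hd, hdP⟩
  have hfix : u • Q ≠ Q := fun e => by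
    rcases hB.card_fixing_two hr hP.symm hu2 (smul_base_eq_iff.2 hu.1) hu.2 e with h | h
    · exact hQ h
    · exact hPQ h.symm
  have hc : d * u = u * d := hB.comm_twoStab hP hdm hu
  have hdR : d • u • Q = u • Q := by rw [← mul_smul, hc, mul_smul, hdQ]
  obtain ⟨a, rfl⟩ := exists_smul_base Q
  have hRb : a⁻¹ • u • a • base M ≠ base M := fun e => hfix (inv_smul_eq_iff.1 e)
  have hdm' : a⁻¹ * d * a ∈ twoStab M (a⁻¹ • u • a • base M) := by
    refine mem_twoStab.2 ⟨smul_base_eq_iff.1 ?_, ?_⟩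
    · rw [mul_smul, mul_smul, hdQ, inv_smul_smul]
    · rw [mul_smul, mul_smul, smul_inv_smul, hdR]
  have h1 := hB.conj_eq_inv hRb (g := a⁻¹ * u * a) (by rw [mul_smul, mul_smul])
    (by rw [mul_smul, mul_smul, smul_inv_smul, ← mul_smul u u, sq_eq_one hu2, one_smul, inv_smul_smul])
    hdm'
  have h2 : u * d * u⁻¹ = d⁻¹ := by
    calc u * d * u⁻¹ = a * (a⁻¹ * u * a * (a⁻¹ * d * a) * (a⁻¹ * u * a)⁻¹) * a⁻¹ := by group
      _ = d⁻¹ := by rw [h1]; group
  rw [← hc, mul_inv_cancel_right] at h2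
  by_contra hd1
  have hd2 : orderOf d = 2 := orderOf_eq_prime (by rw [pow_two]; exact mul_eq_one_iff_eq_inv.2 h2) hd1
  exact hfix (hB.involution_unique hP hd2 hu2 hdm hu ▸ hdQ)

theorem eq_one_of_three (g : G) (P Q R : Pts M) (hPQ : P ≠ Q) (hQR : Q ≠ R) (hPR : P ≠ R)
    (hP : g • P = P) (hQ : g • Q = Q) (hR : g • R = R) : g = 1 := by
  obtain ⟨a, rfl⟩ := exists_smul_base P
  have h := hB.eq_one_of_fixes_base hr (d := a⁻¹ * g * a) (P := a⁻¹ • Q) (Q := a⁻¹ • R)
    (smul_base_eq_iff.1 (by rw [mul_smul, mul_smul, hP, inv_smul_smul]))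
    (fun e => hPQ (inv_smul_eq_iff.1 e).symm) (fun e => hPR (inv_smul_eq_iff.1 e).symm)
    (fun e => hQR (smul_left_cancel _ e))
    (by rw [mul_smul, mul_smul, smul_inv_smul, hQ]) (by rw [mul_smul, mul_smul, smul_inv_smul, hR])
  calc g = a * (a⁻¹ * g * a) * a⁻¹ := by group
    _ = 1 := by rw [h]; group

theorem card_pts_two : Nat.card (Pts M) = Nat.card M + 1 := by rw [hB.card_pts, hr, mul_one]

theorem two_transitive : IsMultiplyPretransitive G (Pts M) 2 := by
  rw [is_two_pretransitive_iff]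
  intro a b c d hab hcd
  obtain ⟨P₀, hP₀⟩ := (Nat.card_eq_one_iff_exists.1 hr)
  have key : ∀ {a b : Pts M}, a ≠ b → ∃ g : G, g • base M = a ∧ g • P₀.1 = b := by
    intro a b hab
    obtain ⟨g, rfl⟩ := exists_smul_base a
    have hb : g⁻¹ • b ≠ base M := fun e => hab (inv_smul_eq_iff.1 e).symm
    obtain ⟨⟨y, P⟩, e⟩ := hB.smul_fix_bijective.2 ⟨g⁻¹ • b, hb⟩
    have e' : (y : G) • P.1 = g⁻¹ • b := congrArg Subtype.val e
    rw [hP₀ P] at e'
    refine ⟨g * y, ?_, ?_⟩
    · rw [mul_smul, smul_base_eq_iff.2 (hB.mem_normalizer y.2)]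
    · rw [mul_smul, e', smul_inv_smul]
  obtain ⟨g, hga, hgb⟩ := key hab
  obtain ⟨h, hhc, hhd⟩ := key hcd
  exact ⟨h * g⁻¹, by rw [← hga, mul_smul, inv_smul_smul, hhc],
    by rw [← hgb, mul_smul, inv_smul_smul, hhd]⟩

theorem faithful : FaithfulSMul G (Pts M) := by
  refine ⟨fun {g h} e => ?_⟩
  classical
  haveI := Fintype.ofFinite (Pts M)
  have h4 : 2 < (Finset.univ : Finset (Pts M)).card := by
    rw [Finset.card_univ, ← Nat.card_eq_fintype_card, hB.card_pts_two hr]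
    have := hB.three_le_card
    omega
  obtain ⟨P, Q, R, -, -, -, hPQ, hPR, hQR⟩ := Finset.two_lt_card_iff.1 h4
  have hf : ∀ S : Pts M, (h⁻¹ * g) • S = S := fun S => by rw [mul_smul, e S, inv_smul_smul]
  exact (inv_mul_eq_one.1 (hB.eq_one_of_three hr _ P Q R hPQ hQR hPR (hf P) (hf Q) (hf R))).symm

theorem dvd_sub_one : Nat.card (Cz M z) ∣ Nat.card M - 1 := by
  classical
  haveI := Fintype.ofFinite (Pts M)
  obtain ⟨⟨P₀, hP₀, hzP⟩, -⟩ := Nat.card_eq_one_iff_exists.1 hr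
  let E := twoStab M P₀
  have hE : E = Cz M z := hB.twoStab_fix hP₀ hzP
  let X : Type _ := {P : Pts M // P ≠ base M ∧ P ≠ P₀}
  letI : MulAction E X :=
    { smul := fun h P => ⟨(h : G) • P.1, fun e => P.2.1 (smul_left_cancel (h : G)
          (e.trans (smul_base_eq_iff.2 h.2.1).symm)),
        fun e => P.2.2 (smul_left_cancel (h : G) (e.trans h.2.2.symm))⟩
      one_smul := fun P => Subtype.ext (one_smul G P.1)
      mul_smul := fun a b P => Subtype.ext (mul_smul (a : G) b P.1) }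
  have hfree : ∀ P : X, stabilizer E P = ⊥ := fun P => by
    rw [eq_bot_iff]
    intro h hh
    exact mem_bot.2 (Subtype.ext (hB.eq_one_of_fixes_base hr h.2.1 hP₀ P.2.1 P.2.2.symm h.2.2
      (congrArg Subtype.val (mem_stabilizer_iff.1 hh))))
  have hX : Nat.card X = Nat.card M - 1 := by
    have h1 : (Finset.univ.filter fun P : Pts M => P ≠ base M ∧ P ≠ P₀) =
        (Finset.univ.erase (base M)).erase P₀ := by
      ext P; simp [and_comm]
    rw [Nat.card_eq_fintype_card, Fintype.card_subtype, h1, Finset.card_erase_of_mem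
      (Finset.mem_erase.2 ⟨hP₀, Finset.mem_univ _⟩), Finset.card_erase_of_mem (Finset.mem_univ _),
      Finset.card_univ, ← Nat.card_eq_fintype_card, hB.card_pts_two hr]
    rfl
  rw [← hX, ← hE, Nat.card_congr (MulAction.selfEquivOrbitsQuotientProd hfree), Nat.card_prod]
  exact dvd_mul_left _ _

theorem card_Cz_cases : Nat.card (Cz M z) + 1 = Nat.card M ∨
    2 * Nat.card (Cz M z) + 1 = Nat.card M := by
  have h1 := hB.card_fixing
  have h2 := hB.card_fixing_le
  rw [hr, hB.card_pts_two hr] at h1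
  rw [hB.card_involutions, hr] at h2
  have h3 : Nat.card M - 1 ≤ 2 * Nat.card (Cz M z) := by
    have h4 : (Nat.card M + 1) * Nat.card M ≤ (2 + 2 * Nat.card (Cz M z)) * Nat.card M := by
      nlinarith
    have := Nat.le_of_mul_le_mul_right h4 Nat.card_pos
    omega
  obtain ⟨t, ht⟩ := hB.dvd_sub_one hr
  have hm := hB.three_le_card
  have hlt := hB.card_Cz_lt
  have ht3 : t ≤ 2 := by
    by_contra h
    have := Nat.mul_le_mul_left (Nat.card (Cz M z)) (show 3 ≤ t by omega)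
    have := hB.even_Cz
    have h0 : 0 < Nat.card (Cz M z) := Nat.card_pos
    omega
  interval_cases t <;> omega

theorem isZassenhausGroup (hc : 2 * Nat.card (Cz M z) + 1 = Nat.card M) :
    Cfsg.IsZassenhausGroup G (Pts M) := by
  haveI := hB.faithful hr
  obtain ⟨⟨P₀, hP₀, hzP⟩, -⟩ := Nat.card_eq_one_iff_exists.1 hr
  refine ⟨inferInstance, hB.two_transitive hr, hB.eq_one_of_three hr,
    ⟨z, fun e => by simpa [e] using hB.hz, base M, P₀, hP₀.symm, smul_base_eq_iff.2 hB.zN, hzP⟩,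
    fun N hN hT => ?_⟩
  by_contra hcon
  push Not at hcon
  have hreg : Function.Bijective (fun g : N => (g : G) • base M) := by
    refine ⟨fun g h e => ?_, fun P => (hT.exists_smul_eq (base M) P).imp fun g hg => hg⟩
    have h1 : g⁻¹ * h ∈ stabilizer N (base M) := by
      rw [mem_stabilizer_iff, mul_smul, inv_smul_eq_iff]
      exact e.symm
    exact inv_mul_eq_one.1 (mem_bot.1 ((hcon (base M)).le h1))
  have hcardN : Nat.card N = Nat.card M + 1 := by
    rw [Nat.card_eq_of_bijective _ hreg, hB.card_pts_two hr]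
  -- `M` is transitive on the non-trivial elements of `N`
  have hord : ∀ h h' : N, h ≠ 1 → h' ≠ 1 → orderOf h = orderOf h' := by
    intro h h' hh hh'
    have hne : ∀ h : N, h ≠ 1 → (h : G) • base M ≠ base M := fun h hh e => hh (hreg.1 (by
      show (h : G) • base M = ((1 : N) : G) • base M
      rw [e, OneMemClass.coe_one, one_smul]))
    obtain ⟨⟨y, P⟩, e⟩ := hB.smul_fix_bijective.2 ⟨(h : G) • base M, hne h hh⟩
    obtain ⟨⟨y', P'⟩, e'⟩ := hB.smul_fix_bijective.2 ⟨(h' : G) • base M, hne h' hh'⟩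
    have hPP : P = P' := (Nat.card_eq_one_iff_unique.1 hr).1.elim P P'
    subst hPP
    have e1 : (y : G) • P.1 = (h : G) • base M := congrArg Subtype.val e
    have e2 : (y' : G) • P.1 = (h' : G) • base M := congrArg Subtype.val e'
    set w := (y' : G) * (y : G)⁻¹ with hw
    have hwM : w ∈ M := mul_mem y'.2 (inv_mem y.2)
    have hk : w * h * w⁻¹ = (h' : G) := by
      refine congrArg Subtype.val (hreg.1 (a₁ := ⟨_, hN.conj_mem _ h.2 w⟩) (a₂ := h') ?_)
      show (w * h * w⁻¹) • base M = (h' : G) • base M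
      rw [mul_smul, mul_smul, smul_base_eq_iff.2 (inv_mem (hB.mem_normalizer hwM)), ← e1, hw,
        mul_smul, inv_smul_smul, e2]
    rw [← orderOf_coe h, ← orderOf_coe h', ← hk, ← MulAut.conj_apply, MulEquiv.orderOf_eq]
  haveI : Fact (Nat.Prime 2) := ⟨Nat.prime_two⟩
  have h2N : 2 ∣ Nat.card N := by
    rw [hcardN]
    obtain ⟨k, hk⟩ := hB.card_odd
    omega
  obtain ⟨t, ht⟩ := exists_prime_orderOf_dvd_card' 2 h2N
  have hP : IsPGroup 2 N := fun h => by
    by_cases h1 : h = 1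
    · exact ⟨0, by simpa using h1⟩
    · refine ⟨1, ?_⟩
      rw [pow_one, ← hord t h (fun e => by rw [e, orderOf_one] at ht; omega) h1 |>.symm.trans ht]
      exact pow_orderOf_eq_one h
  obtain ⟨k, hk⟩ := hP.exists_card_eq
  rw [hcardN] at hk
  obtain ⟨l, hl⟩ := hB.even_Cz
  have hk2 : 2 ≤ k := by
    by_contra hlt
    interval_cases k <;> have := hB.three_le_card <;> omega
  have : 4 ∣ Nat.card M + 1 := hk ▸ pow_dvd_pow 2 hk2
  omega

theorem psl (hc : 2 * Nat.card (Cz M z) + 1 = Nat.card M) :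
    ∃ (F : Type) (_ : Field F) (_ : Fintype F) (p : ℕ) (_ : Fact p.Prime) (_ : CharP F p),
      Fintype.card F = Nat.card M ∧ Cfsg.IsElementaryAbelian p M ∧ Fintype.card F % 4 = 1 ∧
      Nonempty (G ≃* Matrix.ProjectiveSpecialLinearGroup (Fin 2) F) := by
  classical
  haveI := Fintype.ofFinite G
  haveI := Fintype.ofFinite (Pts M)
  have hZ := hB.isZassenhausGroup hr hc
  obtain ⟨⟨P₀, hP₀, hzP⟩, -⟩ := Nat.card_eq_one_iff_exists.1 hr
  have hst : stabilizer G (base M) ⊓ stabilizer G P₀ = twoStab M P₀ := by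
    ext g
    exact and_congr_left' smul_base_eq_iff
  have hcard : Nat.card (twoStab M P₀) = Nat.card (Cz M z) := (hB.regular hB.big hP₀).2.1
  obtain ⟨F, hF, hFF, h2, hΩ, ⟨e⟩⟩ := PSL2.Recog.psl_of_even_stab_of hZ hP₀.symm
    (by rw [hst, hcard]; exact hB.even_Cz)
    (by rw [hst, hcard, ← Nat.card_eq_fintype_card, hB.card_pts_two hr]; omega)
    (fun v hv hv' => ⟨sq_eq_one (hB.orderOf_swap hP₀ hv hv'), fun h hh =>
      hB.conj_eq_inv hP₀ hv hv' (hst ▸ hh)⟩)
  have hq : Fintype.card F = Nat.card M := by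
    rw [← Nat.card_eq_fintype_card, hB.card_pts_two hr] at hΩ
    omega
  obtain ⟨p, hp⟩ := CharP.exists F
  obtain ⟨f, hp', hf⟩ := FiniteField.card F p
  haveI := Fact.mk hp'
  refine ⟨F, hF, hFF, p, ⟨hp'⟩, hp, hq, ⟨⟨⟨fun a b => Subtype.ext (hB.comm a.2 b.2)⟩⟩, ?_⟩, ?_,
    ⟨e⟩⟩
  · intro x hx
    refine orderOf_dvd_iff_pow_eq_one.1 ?_
    have hdm : orderOf x ∣ p ^ (f : ℕ) := hf ▸ hq ▸ M.orderOf_dvd_natCard hx
    obtain ⟨g, hg⟩ := QuotientGroup.mk'_surjective
      (Subgroup.center (Matrix.SpecialLinearGroup (Fin 2) F)) (e x)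
    have hxg : orderOf x ∣ orderOf g := by
      have := orderOf_map_dvd (QuotientGroup.mk'
        (Subgroup.center (Matrix.SpecialLinearGroup (Fin 2) F))) g
      rwa [hg, MulEquiv.orderOf_eq] at this
    obtain ⟨j, hj, hxj⟩ := (Nat.dvd_prime_pow hp').1 hdm
    rcases Nat.eq_zero_or_pos j with rfl | hj0
    · rw [hxj, pow_zero]; exact one_dvd _
    have hpx : p ∣ orderOf x := hxj ▸ dvd_pow_self p hj0.ne'
    have hq1 : p ∣ Fintype.card F := hf ▸ dvd_pow_self p f.ne_zero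
    have hqpos : 1 ≤ Fintype.card F := Fintype.card_pos
    rcases PSL2.orderOf_dvd p g with h | h | h
    · exfalso
      have h1 := Nat.dvd_sub hq1 ((hpx.trans hxg).trans h)
      rw [Nat.sub_sub_self hqpos] at h1
      exact hp'.not_dvd_one h1
    · exfalso
      exact hp'.not_dvd_one ((Nat.dvd_add_right hq1).1 ((hpx.trans hxg).trans h))
    · refine (Nat.Coprime.dvd_of_dvd_mul_left ?_ (hxg.trans h))
      exact Nat.Coprime.coprime_dvd_left (M.orderOf_dvd_natCard hx)
        (Nat.coprime_two_right.2 hB.card_odd)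
  · obtain ⟨l, hl⟩ := hB.even_Cz
    omega

theorem pgl (hc : Nat.card (Cz M z) + 1 = Nat.card M) :
    ∃ (F : Type) (_ : Field F) (_ : Fintype F) (p : ℕ) (_ : Fact p.Prime) (_ : CharP F p),
      Fintype.card F = Nat.card M ∧ Cfsg.IsElementaryAbelian p M ∧
      Nonempty (G ≃* (GL (Fin 2) F ⧸ Subgroup.center (GL (Fin 2) F))) := by
  classical
  haveI := Fintype.ofFinite G
  haveI := Fintype.ofFinite (Pts M)
  haveI := hB.faithful hr
  obtain ⟨⟨P₀, hP₀, hzP⟩, -⟩ := Nat.card_eq_one_iff_exists.1 hr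
  have h3le := hB.three_le_card
  have hΩ : Fintype.card (Pts M) = Nat.card M + 1 := by
    rw [← Nat.card_eq_fintype_card, hB.card_pts_two hr]
  have hsharp : ∀ x : Fin 3 ↪ Pts M, stabilizer G x = ⊥ := fun x => by
    rw [eq_bot_iff]
    intro g hg
    have h : ∀ i, g • x i = x i := fun i => by
      rw [← Function.Embedding.smul_apply, mem_stabilizer_iff.1 hg]
    exact mem_bot.2 (hB.eq_one_of_three hr g (x 0) (x 1) (x 2) (x.injective.ne (by decide))
      (x.injective.ne (by decide)) (x.injective.ne (by decide)) (h 0) (h 1) (h 2))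
  have hemb : Fintype.card (Fin 3 ↪ Pts M) = Nat.card G := by
    rw [Fintype.card_embedding_eq, Fintype.card_fin, hΩ, hB.card_group, hB.card_pts_two hr]
    simp only [Nat.descFactorial_succ, Nat.descFactorial_zero]
    rw [show Nat.card M + 1 - 2 = Nat.card (Cz M z) by omega, Nat.add_sub_cancel, Nat.sub_zero]
    ring
  obtain ⟨x₀⟩ : Nonempty (Fin 3 ↪ Pts M) := by
    rw [← Fintype.card_pos_iff, hemb]; exact Nat.card_pos
  have hbij : Function.Bijective (fun g : G => g • x₀) := by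
    refine (Nat.bijective_iff_injective_and_card _).2 ⟨fun g h e => ?_, by
      rw [← hemb, Nat.card_eq_fintype_card]⟩
    have h1 : h⁻¹ * g ∈ stabilizer G x₀ := by
      rw [mem_stabilizer_iff, mul_smul, inv_smul_eq_iff]; exact e
    rw [hsharp x₀, mem_bot, inv_mul_eq_one] at h1
    exact h1.symm
  have h3 : IsMultiplyPretransitive G (Pts M) 3 := ⟨fun x y => by
    obtain ⟨g, rfl⟩ := hbij.2 x
    obtain ⟨h, rfl⟩ := hbij.2 y
    exact ⟨h * g⁻¹, by rw [mul_smul]; congr 1; exact inv_smul_smul g x₀⟩⟩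
  have heven : Even (Fintype.card (Pts M)) := by
    obtain ⟨k, hk⟩ := hB.card_odd
    exact ⟨k + 1, by omega⟩
  obtain ⟨F, hF, hFF, h⟩ := Perm.pgl_of_sharply_three_comm h3 hsharp heven hP₀.symm
    (fun h h' ha hb ha' hb' => hB.comm_twoStab hP₀ ⟨smul_base_eq_iff.1 ha, hb⟩
      ⟨smul_base_eq_iff.1 ha', hb'⟩)
  obtain ⟨hcardF, ⟨e⟩⟩ := h.resolve_right (by omega)
  have hq : Fintype.card F = Nat.card M := by omega
  obtain ⟨p, hp⟩ := CharP.exists F
  obtain ⟨f, hp', hf⟩ := FiniteField.card F p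
  haveI := Fact.mk hp'
  refine ⟨F, hF, hFF, p, ⟨hp'⟩, hp, hq, ⟨⟨⟨fun a b => Subtype.ext (hB.comm a.2 b.2)⟩⟩, ?_⟩, ⟨e⟩⟩
  -- `C` is transitive on `M` minus the identity
  obtain ⟨x₁, hx₁⟩ := exists_prime_orderOf_dvd_card' (G := M) p
    (hq ▸ hf ▸ dvd_pow_self p f.ne_zero)
  have hx₁1 : x₁ ≠ 1 := fun e1 => hp'.ne_one (by rw [← hx₁, e1, orderOf_one])
  intro x hx
  by_cases hx1 : x = 1
  · rw [hx1, one_pow]
  let φ : Cz M z → {y : M // y ≠ 1} := fun k => ⟨⟨(k : G) * x₁ * (k : G)⁻¹,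
    (mem_normalizer_iff.1 k.2.1 x₁).1 x₁.2⟩, fun e1 => hx₁1 (Subtype.ext
      (conj_eq_one_iff.1 (congrArg Subtype.val e1)))⟩
  have hφ : Function.Bijective φ := by
    refine (Nat.bijective_iff_injective_and_card φ).2 ⟨fun k k' e1 => ?_, ?_⟩
    · have e2 : (k : G) * x₁ * (k : G)⁻¹ = k' * x₁ * (k' : G)⁻¹ :=
        congrArg (fun y : {y : M // y ≠ 1} => ((y.1 : M) : G)) e1
      set d := (k' : G)⁻¹ * k with hd
      have hdC : d ∈ Cz M z := mul_mem (inv_mem k'.2) k.2
      have hdx : d * x₁ = x₁ * d := by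
        calc d * x₁ = (k' : G)⁻¹ * ((k : G) * x₁ * (k : G)⁻¹) * k := by rw [hd]; group
          _ = x₁ * d := by rw [e2, hd]; group
      have hx₁N := hB.mem_normalizer x₁.2
      have hne : (x₁ : G) • P₀ ≠ P₀ := fun e3 => hx₁1 (Subtype.ext (by
        have h4 : (x₁ : G) ∈ twoStab M P₀ ⊓ M := ⟨⟨hx₁N, e3⟩, x₁.2⟩
        rw [(hB.regular hB.big hP₀).2.2, mem_bot] at h4
        exact h4))
      have hdP : d • P₀ = P₀ := (hB.twoStab_fix hP₀ hzP ▸ hdC : d ∈ twoStab M P₀).2
      have hd1 : d = 1 := hB.eq_one_of_fixes_base hr hdC.1 hP₀ (Q := (x₁ : G) • P₀)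
        (fun e3 => hP₀ (by rw [← inv_smul_smul (x₁ : G) P₀, e3,
          smul_base_eq_iff.2 (inv_mem hx₁N)])) hne.symm hdP (by rw [← mul_smul, hdx, mul_smul, hdP])
      exact Subtype.ext (inv_mul_eq_one.1 hd1).symm
    · have h4 : Nat.card {y : M // y ≠ 1} + 1 = Nat.card M := by
        rw [← Finite.card_option]
        exact Nat.card_congr (Equiv.optionSubtypeNe (1 : M))
      omega
  obtain ⟨k, hk⟩ := hφ.2 ⟨⟨x, hx⟩, fun e1 => hx1 (congrArg Subtype.val e1)⟩
  have hkx : (k : G) * x₁ * (k : G)⁻¹ = x :=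
    congrArg (fun y : {y : M // y ≠ 1} => ((y.1 : M) : G)) hk
  rw [← hkx, conj_pow, ← hx₁, ← orderOf_coe x₁, pow_orderOf_eq_one, mul_one, mul_inv_cancel]

end Two

end Big

end Cfsg.Agent.TIInv
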